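import Mathlib.GroupTheory.Index
import Mathlib.GroupTheory.OrderOfElement
import Mathlib.GroupTheory.SpecificGroups.Cyclic
import Mathlib.Data.ZMod.Basic
import Mathlib.Data.ZMod.QuotientGroup
import Mathlib.Order.Atoms.Finite
import Mathlib.Data.Finite.Prod
import Mathlib.RingTheory.Coprime.Lemmas
import Mathlib.Tactic.Ring
import Mathlib.Tactic.Abel

/-!
Lie rings generated in degree zero: sums of images of `ad`, words in given letters, ranks.
These are the tools for the breadth theorem of Vaughan-Lee.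
-/

namespace CfsgLib.PGroup.Breadth

open AddSubgroup

/-- A graded Lie ring generated by its component of degree zero. -/
structure GLie (L : Type*) [AddCommGroup L] where
  B : L →+ L →+ L
  skew : ∀ x y, B x y = - B y x
  jac : ∀ x y z, B (B x y) z + B (B y z) x + B (B z x) y = 0
  Q : ℕ → AddSubgroup L
  sq : ∀ x ∈ Q 0, B x x = 0
  mem_succ : ∀ n, ∀ x ∈ Q 0, ∀ a ∈ Q n, B x a ∈ Q (n + 1)
  succ_le : ∀ n, Q (n + 1) ≤ closure {u | ∃ x ∈ Q 0, ∃ a ∈ Q n, B x a = u}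
  π : ℕ → L →+ L
  π_id : ∀ n, ∀ a ∈ Q n, π n a = a
  π_ne : ∀ m n, ∀ a ∈ Q m, m ≠ n → π n a = 0
  top : ⨆ n, Q n = ⊤

variable {L : Type*} [AddCommGroup L] (Γ : GLie L)

namespace GLie

theorem full {K : AddSubgroup L} (h : ∀ n, Γ.Q n ≤ K) : ∀ a, a ∈ K := fun a => by
  have : (⊤ : AddSubgroup L) ≤ K := Γ.top ▸ iSup_le h
  exact this (mem_top a)

theorem π_mem (n : ℕ) (a : L) : Γ.π n a ∈ Γ.Q n := by
  refine Γ.full (K := (Γ.Q n).comap (Γ.π n)) (fun m b hb => ?_) a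
  show Γ.π n b ∈ Γ.Q n
  by_cases h : m = n
  · subst h; rw [Γ.π_id m b hb]; exact hb
  · rw [Γ.π_ne m n b hb h]; exact zero_mem _

theorem π_B {x : L} (hx : x ∈ Γ.Q 0) (n : ℕ) (a : L) :
    Γ.π (n + 1) (Γ.B x a) = Γ.B x (Γ.π n a) := by
  have : ∀ a, a ∈ ((Γ.π (n + 1)).comp (Γ.B x) - (Γ.B x).comp (Γ.π n)).ker := by
    refine Γ.full fun m b hb => ?_
    rw [AddMonoidHom.mem_ker, AddMonoidHom.sub_apply, sub_eq_zero, AddMonoidHom.comp_apply,
      AddMonoidHom.comp_apply]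
    by_cases h : m = n
    · subst h; rw [Γ.π_id m b hb, Γ.π_id (m + 1) _ (Γ.mem_succ m x hx b hb)]
    · rw [Γ.π_ne m n b hb h, Γ.π_ne (m + 1) (n + 1) _ (Γ.mem_succ m x hx b hb) (by omega), map_zero]
  have h2 := this a
  rwa [AddMonoidHom.mem_ker, AddMonoidHom.sub_apply, sub_eq_zero, AddMonoidHom.comp_apply,
    AddMonoidHom.comp_apply] at h2

/-- Sum of the images of the letters in `Y`. -/
def U (Y : Set L) : AddSubgroup L := closure {u | ∃ y ∈ Y, ∃ a, Γ.B y a = u}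

theorem B_mem_U {Y : Set L} {y : L} (hy : y ∈ Y) (a : L) : Γ.B y a ∈ Γ.U Y :=
  subset_closure ⟨y, hy, a, rfl⟩

theorem U_le {Y : Set L} {K : AddSubgroup L} (h : ∀ y ∈ Y, ∀ a, Γ.B y a ∈ K) : Γ.U Y ≤ K :=
  (closure_le K).2 (by rintro _ ⟨y, hy, a, rfl⟩; exact h y hy a)

theorem U_mono {Y Y' : Set L} (h : Y ⊆ Y') : Γ.U Y ≤ Γ.U Y' :=
  Γ.U_le fun _ hy a => Γ.B_mem_U (h hy) a

theorem U_insert (Y : Set L) (y : L) : Γ.U (insert y Y) = Γ.U Y ⊔ (Γ.B y).range := by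
  refine le_antisymm (Γ.U_le fun x hx a => ?_) (sup_le (Γ.U_mono (Set.subset_insert _ _)) ?_)
  · rcases hx with rfl | hx
    · exact mem_sup_right ⟨a, rfl⟩
    · exact mem_sup_left (Γ.B_mem_U hx a)
  · rintro _ ⟨a, rfl⟩; exact Γ.B_mem_U (Set.mem_insert _ _) a

theorem U_empty : Γ.U (∅ : Set L) = ⊥ :=
  le_bot_iff.1 (Γ.U_le fun _ hy => hy.elim)

theorem B_mem_U_closure {Y : Set L} {x : L} (hx : x ∈ closure Y) (a : L) : Γ.B x a ∈ Γ.U Y := by
  have : closure Y ≤ (Γ.U Y).comap (Γ.B.flip a) := (closure_le _).2 fun y hy => Γ.B_mem_U hy a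
  exact this hx

theorem π_U {Y : Set L} (hY : Y ⊆ (Γ.Q 0 : Set L)) {d : ℕ} {S : AddSubgroup L}
    (h : ∀ x ∈ Y, ∀ a ∈ Γ.Q d, Γ.B x a ∈ S) {u : L} (hu : u ∈ Γ.U Y) : Γ.π (d + 1) u ∈ S := by
  have : Γ.U Y ≤ S.comap (Γ.π (d + 1)) := Γ.U_le fun x hx a => by
    show Γ.π (d + 1) _ ∈ S
    rw [Γ.π_B (hY hx)]; exact h x hx _ (Γ.π_mem d a)
  exact this hu

/-- Words in the letters of `Y`, with signs. -/
inductive Word (Y : Set L) : (L →+ L) → Prop
  | one : Word Y (AddMonoidHom.id L)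
  | neg {w : L →+ L} : Word Y w → Word Y (-w)
  | cons {w : L →+ L} {y : L} : y ∈ Y → Word Y w → Word Y ((Γ.B y).comp w)

variable {Γ}

theorem Word.mono {Y Y' : Set L} (h : Y ⊆ Y') {w : L →+ L} (hw : Γ.Word Y w) : Γ.Word Y' w := by
  induction hw with
  | one => exact .one
  | neg _ ih => exact ih.neg
  | cons hy _ ih => exact .cons (h hy) ih

theorem Word.snoc {Y : Set L} {w : L →+ L} (hw : Γ.Word Y w) {y : L} (hy : y ∈ Y) :
    Γ.Word Y (w.comp (Γ.B y)) := by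
  induction hw with
  | one => exact Word.cons hy .one
  | @neg w _ ih =>
    have : (-w).comp (Γ.B y) = -(w.comp (Γ.B y)) := rfl
    rw [this]; exact ih.neg
  | @cons w z hz _ ih =>
    have : ((Γ.B z).comp w).comp (Γ.B y) = (Γ.B z).comp (w.comp (Γ.B y)) := rfl
    rw [this]; exact Word.cons hz ih

theorem Word.empty {w : L →+ L} (hw : Γ.Word (∅ : Set L) w) :
    w = AddMonoidHom.id L ∨ w = - AddMonoidHom.id L := by
  induction hw with
  | one => exact .inl rfl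
  | neg _ ih => rcases ih with rfl | rfl
                · exact .inr rfl
                · exact .inl (neg_neg _)
  | cons hy _ _ => exact hy.elim

theorem Word.degree {Y : Set L} (hY : Y ⊆ (Γ.Q 0 : Set L)) {w : L →+ L} (hw : Γ.Word Y w) :
    ∃ k, ∀ m, ∀ a ∈ Γ.Q m, w a ∈ Γ.Q (m + k) := by
  induction hw with
  | one => exact ⟨0, fun m a ha => ha⟩
  | neg _ ih =>
    obtain ⟨k, hk⟩ := ih
    exact ⟨k, fun m a ha => neg_mem (hk m a ha)⟩
  | cons hy _ ih =>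
    obtain ⟨k, hk⟩ := ih
    exact ⟨k + 1, fun m a ha => Γ.mem_succ _ _ (hY hy) _ (hk m a ha)⟩

/-- A word moves to the other side of the bracket, modulo `U Y`. -/
theorem Word.move {Y : Set L} {w : L →+ L} (hw : Γ.Word Y w) :
    ∃ w', Γ.Word Y w' ∧ ∀ a b, Γ.B a (w b) - Γ.B (w' a) b ∈ Γ.U Y := by
  induction hw with
  | one => exact ⟨_, .one, fun a b => by simp⟩
  | @neg w _ ih =>
    obtain ⟨w', hw', h⟩ := ih
    refine ⟨-w', hw'.neg, fun a b => ?_⟩
    have := neg_mem (h a b)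
    simp only [AddMonoidHom.neg_apply, map_neg]
    convert this using 1
    abel
  | @cons w y hy _ ih =>
    obtain ⟨w', hw', h⟩ := ih
    refine ⟨-(w'.comp (Γ.B y)), (hw'.snoc hy).neg, fun a b => ?_⟩
    have h1 := h (Γ.B y a) b
    have h2 : Γ.B y (Γ.B a (w b)) ∈ Γ.U Y := Γ.B_mem_U hy _
    have hj : Γ.B a (Γ.B y (w b)) = Γ.B y (Γ.B a (w b)) - Γ.B (Γ.B y a) (w b) := by
      have hj := Γ.jac y a (w b)
      rw [Γ.skew (Γ.B a (w b)) y, Γ.skew (w b) y, map_neg, AddMonoidHom.neg_apply,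
        Γ.skew (Γ.B y (w b)) a, neg_neg] at hj
      rw [eq_sub_iff_add_eq, ← sub_eq_zero, ← hj]
      abel
    simp only [AddMonoidHom.neg_apply, AddMonoidHom.comp_apply, map_neg]
    rw [hj]
    convert sub_mem h2 h1 using 1
    abel

variable (Γ)

/-- The span of the images of `E` under words in `Y`. -/
def Orb (Y E : Set L) : AddSubgroup L := closure {u | ∃ w, Γ.Word Y w ∧ ∃ e ∈ E, w e = u}

theorem mem_orb {Y E : Set L} {w : L →+ L} (hw : Γ.Word Y w) {e : L} (he : e ∈ E) : w e ∈ Γ.Orb Y E :=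
  subset_closure ⟨w, hw, e, he, rfl⟩

theorem self_mem_orb {Y E : Set L} {e : L} (he : e ∈ E) : e ∈ Γ.Orb Y E :=
  Γ.mem_orb .one he

theorem orb_le {Y E : Set L} {K : AddSubgroup L} (h : ∀ w, Γ.Word Y w → ∀ e ∈ E, w e ∈ K) :
    Γ.Orb Y E ≤ K :=
  (closure_le K).2 (by rintro _ ⟨w, hw, e, he, rfl⟩; exact h w hw e he)

theorem orb_mono {Y Y' E E' : Set L} (hY : Y ⊆ Y') (hE : E ⊆ E') : Γ.Orb Y E ≤ Γ.Orb Y' E' :=
  Γ.orb_le fun _ hw _ he => Γ.mem_orb (hw.mono hY) (hE he)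

theorem B_orb {Y E : Set L} {y : L} (hy : y ∈ Y) {a : L} (ha : a ∈ Γ.Orb Y E) :
    Γ.B y a ∈ Γ.Orb Y E :=
  (Γ.orb_le (K := (Γ.Orb Y E).comap (Γ.B y)) fun _ hw _ he => Γ.mem_orb (.cons hy hw) he) ha

theorem π_orb {Y E : Set L} (hY : Y ⊆ (Γ.Q 0 : Set L)) (hE : E ⊆ (Γ.Q 0 : Set L)) (n : ℕ) {a : L}
    (ha : a ∈ Γ.Orb Y E) : Γ.π n a ∈ Γ.Orb Y E := by
  refine (Γ.orb_le (K := (Γ.Orb Y E).comap (Γ.π n)) fun w hw e he => ?_) ha
  obtain ⟨k, hk⟩ := hw.degree hY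
  show Γ.π n (w e) ∈ Γ.Orb Y E
  by_cases h : 0 + k = n
  · rw [← h, Γ.π_id _ _ (hk 0 e (hE he))]; exact Γ.mem_orb hw he
  · rw [Γ.π_ne _ _ _ (hk 0 e (hE he)) h]; exact zero_mem _

/-- Bracket of a word in `Y` applied to `e ∈ E` lies in `U (Y ∪ E)`. -/
theorem B_orb_mem_U {Y E : Set L} {K : AddSubgroup L} (hYK : Γ.U Y ≤ K)
    (hEK : ∀ e ∈ E, ∀ a, Γ.B e a ∈ K) (x : L) {a : L} (ha : a ∈ Γ.Orb Y E) : Γ.B x a ∈ K := by
  refine (Γ.orb_le (K := K.comap (Γ.B x)) fun w hw e he => ?_) ha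
  obtain ⟨w', _, h⟩ := hw.move
  have h1 := hYK (h x e)
  have h2 : Γ.B (w' x) e ∈ K := by rw [Γ.skew]; exact neg_mem (hEK e he _)
  have := add_mem h1 h2
  rwa [sub_add_cancel] at this

/-- The rank of `x` modulo a subgroup. -/
noncomputable def rank (V : AddSubgroup L) (x : L) : ℕ := (V.comap (Γ.B x)).index

theorem card_sup_range (V : AddSubgroup L) (x : L) :
    Nat.card ↥(V ⊔ (Γ.B x).range) = Nat.card V * Γ.rank V x := by
  rw [rank, index_comap, ← relIndex_sup_left (Γ.B x).range V, ← relIndex_bot_left V,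
    ← relIndex_bot_left (V ⊔ (Γ.B x).range)]
  exact (relIndex_mul_relIndex _ _ _ bot_le le_sup_left).symm

theorem rank_mono {V W : AddSubgroup L} (h : V ≤ W) [Finite L] (x : L) : Γ.rank W x ≤ Γ.rank V x :=
  index_antitone (comap_mono h)

theorem rank_congr {V : AddSubgroup L} {x y : L} (h : ∀ t, Γ.B (x - y) t ∈ V) :
    Γ.rank V x = Γ.rank V y := by
  unfold rank
  congr 1
  ext t
  have := h t
  rw [map_sub, AddMonoidHom.sub_apply] at this
  constructor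
  · intro hx; have := sub_mem (mem_comap.1 hx) this; rwa [sub_sub_cancel] at this
  · intro hy; have := add_mem this (mem_comap.1 hy); rwa [sub_add_cancel] at this

end GLie

/-! ### Finite abelian groups of prime power order -/

section PPow

variable {p : ℕ} [hp : Fact p.Prime] {A : Type*} [AddCommGroup A] [Finite A]

theorem index_pow (hA : ∃ N, Nat.card A = p ^ N) (K : AddSubgroup A) : ∃ k, K.index = p ^ k := by
  obtain ⟨N, hN⟩ := hA
  obtain ⟨k, -, hk⟩ := (Nat.dvd_prime_pow hp.out).1 (hN ▸ K.index_dvd_card)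
  exact ⟨k, hk⟩

theorem index_drop (hA : ∃ N, Nat.card A = p ^ N) {K K' : AddSubgroup A} (h : K ≤ K')
    (hne : ∃ t ∈ K', t ∉ K) : p * K'.index ≤ K.index := by
  rw [← relIndex_mul_index h]
  refine Nat.mul_le_mul_right _ ?_
  have hd : K.relIndex K' ∣ K.index := ⟨_, (relIndex_mul_index h).symm⟩
  obtain ⟨k, hk⟩ := index_pow hA K
  obtain ⟨j, -, hj⟩ := (Nat.dvd_prime_pow hp.out).1 (hk ▸ hd)
  rcases Nat.eq_zero_or_pos j with rfl | hj0
  · obtain ⟨t, ht, htn⟩ := hne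
    exact (htn (relIndex_eq_one.1 (by simpa using hj) ht)).elim
  · rw [hj]; exact Nat.le_self_pow hj0.ne' p

theorem eq_of_index_le (hA : ∃ N, Nat.card A = p ^ N) {K K' : AddSubgroup A} (h : K ≤ K')
    (hle : K.index ≤ K'.index) : K' ≤ K := by
  by_contra hn
  obtain ⟨t, ht, htn⟩ := SetLike.not_le_iff_exists.1 hn
  have h1 := index_drop hA h ⟨t, ht, htn⟩
  have h2 : 0 < K'.index := Nat.pos_of_ne_zero AddSubgroup.index_ne_zero_of_finite
  have h3 : 2 * K'.index ≤ p * K'.index := Nat.mul_le_mul_right _ hp.out.two_le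
  omega

theorem exists_hom_zmod (hA : ∃ N, Nat.card A = p ^ N) {K : AddSubgroup A} (hK : K ≠ ⊤) :
    ∃ g : A →+ ZMod p, (∀ k ∈ K, g k = 0) ∧ ∃ a, g a ≠ 0 := by
  haveI : Finite (AddSubgroup A) := Finite.of_injective _ SetLike.coe_injective
  obtain ⟨M, hM, hKM⟩ := (eq_top_or_exists_le_coatom K).resolve_left hK
  obtain ⟨a, -, ha⟩ := SetLike.exists_of_lt (lt_top_iff_ne_top.2 hM.1)
  obtain ⟨k, hk⟩ := index_pow hA M
  have hpa : (p : ℕ) • a ∈ M := by
    by_contra hn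
    have htop : M ⊔ closure {(p : ℕ) • a} = ⊤ := by
      apply hM.2
      exact lt_of_le_of_ne le_sup_left fun h => hn (h ▸ mem_sup_right (subset_closure rfl))
    obtain ⟨m, hm, z, hz, hmz⟩ := mem_sup.1 (htop ▸ mem_top a : a ∈ M ⊔ closure {(p : ℕ) • a})
    obtain ⟨n, rfl⟩ := mem_closure_singleton.1 hz
    have h1 : (1 - n * (p : ℤ)) • a ∈ M := by
      have : (1 - n * (p : ℤ)) • a = m := by
        rw [sub_smul, one_smul, mul_smul, natCast_zsmul, sub_eq_iff_eq_add]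
        exact hmz.symm
      rwa [this]
    have hpk : ((p : ℤ) ^ k) • a ∈ M := by
      have h0 : (M.index) • ((a : A ⧸ M)) = 0 := card_nsmul_eq_zero'
      rw [hk, ← QuotientAddGroup.mk_nsmul, QuotientAddGroup.eq_zero_iff] at h0
      have e : ((p : ℤ) ^ k) • a = (p ^ k) • a := by rw [← natCast_zsmul]; push_cast; rfl
      rwa [e]
    obtain ⟨u, v, huv⟩ : IsCoprime ((p : ℤ) ^ k) (1 - n * (p : ℤ)) := by
      refine IsCoprime.pow_left ⟨n, 1, ?_⟩
      ring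
    apply ha
    have := add_mem (M.zsmul_mem hpk u) (M.zsmul_mem h1 v)
    rwa [← mul_smul, ← mul_smul, ← add_smul, huv, one_smul] at this
  have hgen : ∀ x : A ⧸ M, x ∈ zmultiples (a : A ⧸ M) := by
    intro x
    induction x using QuotientAddGroup.induction_on with
    | H z =>
      have htop : M ⊔ closure {a} = ⊤ := by
        apply hM.2
        exact lt_of_le_of_ne le_sup_left fun h => ha (h ▸ mem_sup_right (subset_closure rfl))
      obtain ⟨m, hm, w, hw, rfl⟩ := mem_sup.1 (htop ▸ mem_top z : z ∈ M ⊔ closure {a})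
      obtain ⟨n, rfl⟩ := mem_closure_singleton.1 hw
      refine mem_zmultiples_iff.2 ⟨n, ?_⟩
      rw [QuotientAddGroup.mk_add, (QuotientAddGroup.eq_zero_iff m).2 hm, zero_add,
        QuotientAddGroup.mk_zsmul]
  have hord : addOrderOf (a : A ⧸ M) = p := by
    refine addOrderOf_eq_prime ?_ fun h => ha ((QuotientAddGroup.eq_zero_iff a).1 h)
    rw [← QuotientAddGroup.mk_nsmul, QuotientAddGroup.eq_zero_iff]; exact hpa
  have hcard : Nat.card (A ⧸ M) = p :=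
    (addOrderOf_eq_card_of_forall_mem_zmultiples hgen).symm.trans hord
  refine ⟨(zmodAddEquivOfGenerator hgen hcard).symm.toAddMonoidHom.comp (QuotientAddGroup.mk' M),
    fun x hx => ?_, a, fun h => ha ?_⟩
  · show (zmodAddEquivOfGenerator hgen hcard).symm (x : A ⧸ M) = 0
    rw [(QuotientAddGroup.eq_zero_iff x).2 (hKM hx), map_zero]
  · exact (QuotientAddGroup.eq_zero_iff a).1
      ((AddEquiv.map_eq_zero_iff (zmodAddEquivOfGenerator hgen hcard).symm).1 h)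

end PPow

end CfsgLib.PGroup.Breadth
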