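import Cfsg.Agent.Lib.PGroup.Breadth.Basic

/-!
Chains of letters for the breadth theorem: the induction step and the generation lemma.
-/

namespace CfsgLib.PGroup.Breadth

open AddSubgroup

/-- Triangular numbers. -/
def tri : ℕ → ℕ
  | 0 => 0
  | n + 1 => tri n + (n + 1)

theorem two_mul_tri : ∀ n, 2 * tri n = n * (n + 1)
  | 0 => rfl
  | n + 1 => by rw [tri, mul_add, two_mul_tri n]; ring

theorem tri_eq (n : ℕ) : tri n = n * (n + 1) / 2 := by
  rw [← two_mul_tri]; omega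

theorem tri_sub {b j : ℕ} (h : j < b) : tri (b - j) = tri (b - (j + 1)) + (b - j) := by
  have : b - j = (b - (j + 1)) + 1 := by omega
  rw [this, tri]

variable {L : Type*} [AddCommGroup L] (Γ : GLie L)

namespace GLie

/-- Elements orthogonal, modulo `U Y`, to the orbit of `y`. -/
def Ntr (Y : Set L) (y : L) : AddSubgroup L :=
  ⨅ w, ⨅ _ : Γ.Word Y w, (Γ.U Y).comap (Γ.B.flip (w y))

theorem mem_ntr {Y : Set L} {y z : L} :
    z ∈ Γ.Ntr Y y ↔ ∀ w, Γ.Word Y w → Γ.B z (w y) ∈ Γ.U Y := by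
  simp only [Ntr, mem_iInf, mem_comap, AddMonoidHom.flip_apply]

theorem ntr_symm {Y : Set L} {y z : L} (h : z ∈ Γ.Ntr Y y) : y ∈ Γ.Ntr Y z := by
  refine Γ.mem_ntr.2 fun w hw => ?_
  obtain ⟨w', hw', hm⟩ := hw.move
  have h1 := hm y z
  have h2 : Γ.B (w' y) z ∈ Γ.U Y := by rw [Γ.skew]; exact neg_mem (Γ.mem_ntr.1 h w' hw')
  have := add_mem h1 h2
  rwa [sub_add_cancel] at this

theorem closure_le_ntr (Y : Set L) (y : L) : closure Y ≤ Γ.Ntr Y y :=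
  (closure_le _).2 fun _ hz => Γ.mem_ntr.2 fun _ _ => Γ.B_mem_U hz _

theorem mem_ntr_of_range {Y : Set L} {y z : L} (h : ∀ t, Γ.B z t ∈ Γ.U Y) : z ∈ Γ.Ntr Y y :=
  Γ.mem_ntr.2 fun _ _ => h _

/-- Everything is spanned by orbits, and all images lie in `U (Y ∪ E)`. -/
theorem gen {Y E : Set L} {N : AddSubgroup L} (hY : Y ⊆ (Γ.Q 0 : Set L)) (hE : E ⊆ (Γ.Q 0 : Set L))
    (hN : N ≤ Γ.Q 0) (hcov : Γ.Q 0 ≤ closure E ⊔ N)
    (ha : ∀ e ∈ E, ∀ n ∈ N, ∀ w, Γ.Word Y w → Γ.B e (w n) ∈ Γ.U Y)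
    (hb : ∀ n ∈ N, ∀ n' ∈ N, ∀ w, Γ.Word Y w → Γ.B n (w n') ∈ Γ.U (Y ∪ E)) :
    Γ.U (Γ.Q 0 : Set L) ≤ Γ.U (Y ∪ E) := by
  set S := Γ.Orb (Y ∪ E) (Y ∪ E) ⊔ Γ.Orb Y (N : Set L)
  have hYE : Y ∪ E ⊆ (Γ.Q 0 : Set L) := Set.union_subset hY hE
  have hSY : ∀ x ∈ Y, ∀ a ∈ S, Γ.B x a ∈ S := by
    intro x hx a ha'
    obtain ⟨j, hj, r, hr, rfl⟩ := mem_sup.1 ha'
    rw [map_add]
    exact add_mem (mem_sup_left (Γ.B_orb (Or.inl hx) hj)) (mem_sup_right (Γ.B_orb hx hr))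
  have hnU : ∀ n ∈ N, ∀ a ∈ S, Γ.B n a ∈ Γ.U (Y ∪ E) := by
    intro n hn a ha'
    obtain ⟨j, hj, r, hr, rfl⟩ := mem_sup.1 ha'
    rw [map_add]
    refine add_mem (Γ.B_orb_mem_U le_rfl (fun e he t => Γ.B_mem_U he t) n hj) ?_
    exact (Γ.orb_le (K := (Γ.U (Y ∪ E)).comap (Γ.B n)) fun w hw m hm => hb n hn m hm w hw) hr
  have key : ∀ d, Γ.Q d ≤ S := by
    intro d
    induction d with
    | zero =>
      refine hcov.trans (sup_le ((closure_le _).2 fun e he => ?_) fun n hn => ?_)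
      · exact mem_sup_left (Γ.self_mem_orb (Or.inr he))
      · exact mem_sup_right (Γ.self_mem_orb hn)
    | succ d ih =>
      have hBE : ∀ e ∈ E, ∀ a ∈ Γ.Q d, Γ.B e a ∈ S := by
        intro e he a ha'
        obtain ⟨j, hj, r, hr, hjr⟩ := mem_sup.1 (ih ha')
        have h0 : Γ.B e a = Γ.π (d + 1) (Γ.B e j) + Γ.π (d + 1) (Γ.B e r) := by
          rw [← map_add, ← map_add, hjr, Γ.π_id (d + 1) _ (Γ.mem_succ d e (hE he) a ha')]
        rw [h0]
        refine add_mem (mem_sup_left (Γ.π_orb hYE hYE _ (Γ.B_orb (Or.inr he) hj))) ?_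
        refine Γ.π_U hY (fun x hx a' ha'' => hSY x hx a' (ih ha'')) ?_
        exact (Γ.orb_le (K := (Γ.U Y).comap (Γ.B e)) fun w hw m hm => ha e he m hm w hw) hr
      refine (Γ.succ_le d).trans ((closure_le _).2 ?_)
      rintro _ ⟨x, hx, a, ha', rfl⟩
      have hle : closure E ⊔ N ≤ S.comap (Γ.B.flip a) := by
        refine sup_le ((closure_le _).2 fun e he => hBE e he a ha') fun n hn => ?_
        show Γ.B n a ∈ S
        rw [← Γ.π_id (d + 1) _ (Γ.mem_succ d n (hN hn) a ha')]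
        refine Γ.π_U hYE (fun z hz a' ha'' => ?_) (hnU n hn a (ih ha'))
        rcases hz with hz | hz
        · exact hSY z hz a' (ih ha'')
        · exact hBE z hz a' ha''
      exact hle (hcov hx)
  refine Γ.U_le fun x hx a => ?_
  have hle : closure E ⊔ N ≤ (Γ.U (Y ∪ E)).comap (Γ.B.flip a) :=
    sup_le ((closure_le _).2 fun e he => Γ.B_mem_U (Or.inr he) a)
      fun n hn => hnU n hn a (Γ.full key a)
  exact hle (hcov hx)

theorem exists_hom_Q0 {p : ℕ} [Fact p.Prime] [Finite L] (hL : ∃ N, Nat.card L = p ^ N)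
    {K : AddSubgroup L} (hK : ¬ Γ.Q 0 ≤ K) :
    ∃ g : L →+ ZMod p, (∀ k ∈ K, k ∈ Γ.Q 0 → g k = 0) ∧ ∃ z ∈ Γ.Q 0, g z ≠ 0 := by
  set K' := (K ⊓ Γ.Q 0).comap (Γ.π 0) with hK'
  have hne : K' ≠ ⊤ := fun h => hK fun x hx => by
    have : x ∈ K' := h ▸ mem_top x
    rw [hK', mem_comap, Γ.π_id 0 x hx] at this
    exact this.1
  obtain ⟨g, hg, a, ha⟩ := exists_hom_zmod hL hne
  refine ⟨g, fun k hk hk0 => hg k ?_, Γ.π 0 a, Γ.π_mem 0 a, fun h => ha ?_⟩
  · rw [hK', mem_comap, Γ.π_id 0 k hk0]; exact ⟨hk, hk0⟩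
  · have h1 : g (a - Γ.π 0 a) = 0 := hg _ (by
      rw [hK', mem_comap, map_sub, Γ.π_id 0 _ (Γ.π_mem 0 a), sub_self]; exact zero_mem _)
    rwa [map_sub, h, sub_zero] at h1

end GLie

/-- The letters below `i`. -/
def Ylt (y : ℕ → L) (i : ℕ) : Set L := y '' {l | l < i}

omit [AddCommGroup L] in
theorem Ylt_succ (y : ℕ → L) (i : ℕ) : Ylt y (i + 1) = insert (y i) (Ylt y i) := by
  rw [Ylt, Ylt, ← Set.image_insert_eq]
  congr 1
  ext l; simp only [Set.mem_setOf_eq, Set.mem_insert_iff]; omega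

omit [AddCommGroup L] in
theorem Ylt_zero (y : ℕ → L) : Ylt y 0 = ∅ := by simp [Ylt]

omit [AddCommGroup L] in
theorem Ylt_mono (y : ℕ → L) {i j : ℕ} (h : i ≤ j) : Ylt y i ⊆ Ylt y j :=
  Set.image_mono fun _ hl => lt_of_lt_of_le (Set.mem_setOf.1 hl) h

omit [AddCommGroup L] in
theorem Ylt_congr {y y' : ℕ → L} {i : ℕ} (h : ∀ l < i, y l = y' l) : Ylt y i = Ylt y' i :=
  Set.image_congr fun l hl => h l hl

/-- A chain of length `i`: letters with their hyperplanes and rank bounds. -/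
structure Chain (p b i : ℕ) where
  y : ℕ → L
  h : ℕ → L →+ ZMod p
  ymem : ∀ l < i, y l ∈ Γ.Q 0
  h_self : ∀ l < i, h l (y l) ≠ 0
  h_low : ∀ m l, m < l → l ≤ i → h l (y m) = 0
  h_ex : ∃ z ∈ Γ.Q 0, h i z ≠ 0
  bd : ∀ l ≤ i, ∀ z ∈ Γ.Q 0, h l z ≠ 0 → Γ.rank (Γ.U (Ylt y l)) z ≤ p ^ (b - l)
  wit : p = 2 → ∀ l < i, ∀ z ∈ Γ.Q 0, h l z ≠ 0 → h (l + 1) z ≠ 0 →
    ∃ w, Γ.Word (Ylt y l) w ∧ Γ.B z (w (y l)) ∉ Γ.U (Ylt y l)

variable {Γ} {p b i : ℕ}

theorem Chain.sub_Q0 (C : Chain Γ p b i) {j : ℕ} (hj : j ≤ i) : Ylt C.y j ⊆ (Γ.Q 0 : Set L) := by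
  rintro _ ⟨l, hl, rfl⟩; exact C.ymem l (lt_of_lt_of_le hl hj)

theorem Chain.U_succ (C : Chain Γ p b i) (j : ℕ) :
    Γ.U (Ylt C.y (j + 1)) = Γ.U (Ylt C.y j) ⊔ (Γ.B (C.y j)).range := by
  rw [Ylt_succ, Γ.U_insert]

theorem Chain.card_succ (C : Chain Γ p b i) (j : ℕ) :
    Nat.card ↥(Γ.U (Ylt C.y (j + 1))) = Nat.card (Γ.U (Ylt C.y j)) * Γ.rank (Γ.U (Ylt C.y j)) (C.y j) := by
  rw [C.U_succ, Γ.card_sup_range]

theorem Chain.card_le (C : Chain Γ p b i) (hib : i ≤ b) {l : ℕ} : ∀ {j}, l ≤ j → j ≤ i →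
    Nat.card (Γ.U (Ylt C.y j)) * p ^ tri (b - j) ≤ Nat.card (Γ.U (Ylt C.y l)) * p ^ tri (b - l) := by
  intro j hlj
  induction j, hlj using Nat.le_induction with
  | base => intro _; exact le_rfl
  | succ j hlj ih =>
    intro hji
    refine le_trans ?_ (ih (by omega))
    rw [C.card_succ, tri_sub (show j < b by omega), pow_add, mul_assoc, mul_comm (p ^ tri _)]
    exact Nat.mul_le_mul_left _ (Nat.mul_le_mul_right _
      (C.bd j (by omega) _ (C.ymem j (by omega)) (C.h_self j (by omega))))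

theorem Chain.card_U (C : Chain Γ p b i) (hib : i ≤ b) {j : ℕ} (hj : j ≤ i) :
    Nat.card (Γ.U (Ylt C.y j)) * p ^ tri (b - j) ≤ p ^ tri b := by
  have := C.card_le hib (Nat.zero_le j) hj
  rwa [Ylt_zero, Γ.U_empty, AddSubgroup.card_bot, one_mul, Nat.sub_zero] at this

theorem Chain.h_closure (C : Chain Γ p b i) {x : L} (hx : x ∈ closure (Ylt C.y i)) : C.h i x = 0 := by
  have : closure (Ylt C.y i) ≤ (C.h i).ker := (closure_le _).2 (by
    rintro _ ⟨m, hm, rfl⟩; exact C.h_low m i hm le_rfl)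
  exact this hx

/-- Elements with nonzero `h i` span the component of degree zero. -/
theorem Chain.span (C : Chain Γ p b i) {K : AddSubgroup L}
    (hK : ∀ z ∈ Γ.Q 0, C.h i z ≠ 0 → z ∈ K) : Γ.Q 0 ≤ K := by
  intro z hz
  obtain ⟨z0, hz0, hh⟩ := C.h_ex
  by_cases h : C.h i z = 0
  · have h1 := hK (z + z0) (add_mem hz hz0) (by rwa [map_add, h, zero_add])
    have := sub_mem h1 (hK z0 hz0 hh)
    rwa [add_sub_cancel_right] at this
  · exact hK z hz h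

theorem Chain.bound_of_le (C : Chain Γ p b i) [Fact p.Prime] [Finite L] (hib : i ≤ b)
    (h : Γ.U (Γ.Q 0 : Set L) ≤ Γ.U (Ylt C.y i)) : Nat.card (Γ.U (Γ.Q 0 : Set L)) ≤ p ^ tri b := by
  refine (AddSubgroup.card_le_of_le h).trans (le_trans ?_ (C.card_U hib le_rfl))
  exact Nat.le_mul_of_pos_right _ (pow_pos (Fact.out : p.Prime).pos _)

theorem Chain.bound_top (C : Chain Γ p b b) [Fact p.Prime] [Finite L] :
    Nat.card (Γ.U (Γ.Q 0 : Set L)) ≤ p ^ tri b := by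
  refine C.bound_of_le le_rfl (Γ.U_le fun x hx a => ?_)
  have hle : Γ.Q 0 ≤ (Γ.U (Ylt C.y b)).comap (Γ.B.flip a) := C.span fun z hz hh => by
    have h1 : Γ.rank (Γ.U (Ylt C.y b)) z ≤ 1 := by
      have := C.bd b le_rfl z hz hh
      rwa [Nat.sub_self, pow_zero] at this
    have h2 : (Γ.U (Ylt C.y b)).comap (Γ.B z) = ⊤ :=
      index_eq_one.1 (le_antisymm h1 (Nat.pos_of_ne_zero index_ne_zero_of_finite))
    have : a ∈ (Γ.U (Ylt C.y b)).comap (Γ.B z) := h2 ▸ mem_top a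
    exact this
  exact hle hx

/-- All elements off the hyperplane are orthogonal to everything. -/
theorem Chain.bound_dead (C : Chain Γ p b i) [Fact p.Prime] [Finite L] (hib : i ≤ b)
    (hd : ∀ y ∈ Γ.Q 0, C.h i y ≠ 0 → Γ.Q 0 ≤ Γ.Ntr (Ylt C.y i) y) :
    Nat.card (Γ.U (Γ.Q 0 : Set L)) ≤ p ^ tri b := by
  refine C.bound_of_le hib ?_
  have h := Γ.gen (Y := Ylt C.y i) (E := ∅) (N := Γ.Q 0) (C.sub_Q0 le_rfl) (Set.empty_subset _) le_rfl
    le_sup_right (fun e he => he.elim) (fun n hn n' hn' w hw => ?_)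
  · rwa [Set.union_empty] at h
  · have hle : Γ.Q 0 ≤ Γ.Ntr (Ylt C.y i) n' := C.span fun z hz hh => Γ.ntr_symm (hd z hz hh hn')
    rw [Set.union_empty]
    exact Γ.mem_ntr.1 (hle hn) w hw

/-- One more letter. -/
theorem Chain.step (C : Chain Γ p b i) [Fact p.Prime] [Finite L] (hL : ∃ N, Nat.card L = p ^ N)
    (hib : i < b) {y : L} (hy : y ∈ Γ.Q 0) (hhy : C.h i y ≠ 0) (g : L →+ ZMod p)
    (gY : ∀ l < i, g (C.y l) = 0) (gy : g y = 0) (gex : ∃ z ∈ Γ.Q 0, g z ≠ 0)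
    (hl : ∀ z ∈ Γ.Q 0, g z ≠ 0 → ∃ m : ℕ, C.h i (z + m • y) ≠ 0 ∧ z + m • y ∉ Γ.Ntr (Ylt C.y i) y)
    (hw : p = 2 → ∀ z ∈ Γ.Q 0, g z ≠ 0 → C.h i z ≠ 0 → z ∉ Γ.Ntr (Ylt C.y i) y) :
    Nonempty (Chain Γ p b (i + 1)) := by
  set y' := Function.update C.y i y with hy'
  set h' := Function.update C.h (i + 1) g with hh'
  have eY : ∀ l ≤ i, Ylt y' l = Ylt C.y l := fun l hl' => Ylt_congr fun m hm => by
    rw [hy', Function.update_of_ne (by omega)]
  have ey : y' i = y := by rw [hy', Function.update_self]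
  have eyl : ∀ m < i, y' m = C.y m := fun m hm => by rw [hy', Function.update_of_ne (by omega)]
  have ehl : ∀ l ≤ i, h' l = C.h l := fun l hl' => by rw [hh', Function.update_of_ne (by omega)]
  have eh : h' (i + 1) = g := by rw [hh', Function.update_self]
  refine ⟨⟨y', h', ?_, ?_, ?_, ?_, ?_, ?_⟩⟩
  · intro l hl'
    rcases Nat.lt_succ_iff_lt_or_eq.1 hl' with h | rfl
    · rw [eyl l h]; exact C.ymem l h
    · rw [ey]; exact hy
  · intro l hl'
    rw [ehl l (by omega)]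
    rcases Nat.lt_succ_iff_lt_or_eq.1 hl' with h | rfl
    · rw [eyl l h]; exact C.h_self l h
    · rw [ey]; exact hhy
  · intro m l hml hli
    rcases Nat.lt_succ_iff_lt_or_eq.1 (Nat.lt_succ_of_le hli) with h | rfl
    · rw [eyl m (by omega), ehl l (by omega)]; exact C.h_low m l hml (by omega)
    · rw [eh]
      rcases Nat.lt_succ_iff_lt_or_eq.1 hml with h | rfl
      · rw [eyl m h]; exact gY m h
      · rw [ey]; exact gy
  · rw [eh]; exact gex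
  · intro l hli z hz hzn
    rcases Nat.lt_succ_iff_lt_or_eq.1 (Nat.lt_succ_of_le hli) with h | rfl
    · rw [eY l (by omega)]; rw [ehl l (by omega)] at hzn
      exact C.bd l (by omega) z hz hzn
    · rw [eh] at hzn
      obtain ⟨m, hm1, hm2⟩ := hl z hz hzn
      rw [Ylt_succ, ey, eY i le_rfl]
      have hc : Γ.rank (Γ.U (insert y (Ylt C.y i))) z = Γ.rank (Γ.U (insert y (Ylt C.y i))) (z + m • y) := by
        refine Γ.rank_congr fun t => ?_
        rw [sub_add_cancel_left, map_neg, AddMonoidHom.neg_apply, map_nsmul, AddMonoidHom.nsmul_apply]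
        exact neg_mem (nsmul_mem (Γ.B_mem_U (Set.mem_insert _ _) t) m)
      rw [hc]
      rw [Γ.mem_ntr] at hm2
      push Not at hm2
      obtain ⟨w, hw', hwn⟩ := hm2
      have hdrop : p * Γ.rank (Γ.U (insert y (Ylt C.y i))) (z + m • y)
          ≤ Γ.rank (Γ.U (Ylt C.y i)) (z + m • y) := by
        refine index_drop hL (comap_mono (Γ.U_mono (Set.subset_insert _ _))) ⟨w y, ?_, hwn⟩
        exact Γ.B_orb_mem_U (E := {y}) (Γ.U_mono (Set.subset_insert _ _))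
          (fun e he t => Γ.B_mem_U (Or.inl he) t) _ (Γ.mem_orb hw' rfl)
      have hb' := C.bd i le_rfl _ (add_mem hz (nsmul_mem hy m)) hm1
      have : p ^ (b - i) = p * p ^ (b - (i + 1)) := by
        rw [← pow_succ']; congr 1; omega
      exact Nat.le_of_mul_le_mul_left ((hdrop.trans hb').trans this.le) (Fact.out : p.Prime).pos
  · intro hp2 l hli z hz h1 h2
    rcases Nat.lt_succ_iff_lt_or_eq.1 hli with h | rfl
    · rw [eY l (by omega), eyl l h]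
      rw [ehl l (by omega)] at h1
      rw [ehl (l + 1) (by omega)] at h2
      exact C.wit hp2 l h z hz h1 h2
    · rw [eY l le_rfl, ey]
      rw [ehl l le_rfl] at h1
      rw [eh] at h2
      have := hw hp2 z hz h2 h1
      rw [Γ.mem_ntr] at this
      push Not at this
      exact this

end CfsgLib.PGroup.Breadth
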