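import Cfsg.Agent.Lib.PGroup.Breadth.Chain

/-!
The prime two: an orthogonal pair of letters with independent images forces slack in the chain.
-/

namespace CfsgLib.PGroup.Breadth

open AddSubgroup

variable {L : Type*} [AddCommGroup L] {Γ : GLie L} {b i : ℕ}

/-- If the low words keep `n` inside `U ⊔ range y`, then so does everything. -/
theorem Chain.delta {p : ℕ} (C : Chain Γ p b i) {y n : L} (hy : y ∈ Γ.Q 0) (hn : n ∈ Γ.Q 0)
    (hny : n ∈ Γ.Ntr (Ylt C.y i) y)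
    (hcov : Γ.Q 0 ≤ closure {y, n} ⊔ (Γ.Ntr (Ylt C.y i) y ⊓ Γ.Ntr (Ylt C.y i) n ⊓ Γ.Q 0))
    (hgen : ∀ x ∈ Γ.Q 0, ∀ t, Γ.B x t ∈ Γ.U (insert n (insert y (Ylt C.y i))))
    {l : ℕ} (hl : l ≤ i)
    (hrel : ∀ m, l ≤ m → m < i → ∀ v, Γ.Word (Ylt C.y m) v →
      Γ.B (C.y m) (v (C.y m + (y + n))) ∈ Γ.U (Ylt C.y m))
    (hlow : ∀ v, Γ.Word (Ylt C.y l) v → Γ.B n (v n) ∈ Γ.U (insert y (Ylt C.y i))) :
    ∀ t, Γ.B n t ∈ Γ.U (insert y (Ylt C.y i)) := by
  set Y := Ylt C.y i with hY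
  set R := Γ.Ntr Y y ⊓ Γ.Ntr Y n ⊓ Γ.Q 0 with hR
  have hYQ : Y ⊆ (Γ.Q 0 : Set L) := C.sub_Q0 le_rfl
  have hlY : Ylt C.y l ⊆ Y := Ylt_mono C.y hl
  have hyYQ : insert y Y ⊆ (Γ.Q 0 : Set L) := Set.insert_subset hy hYQ
  have hnQ : ({n} : Set L) ⊆ (Γ.Q 0 : Set L) := by simpa using hn
  have hRQ : (R : Set L) ⊆ (Γ.Q 0 : Set L) := fun r hr => hr.2
  set S := Γ.Orb (Ylt C.y l) {n} ⊔ Γ.Orb (insert y Y) (insert y Y) ⊔ Γ.Orb Y (R : Set L) with hS
  have sS : ∀ {K : AddSubgroup L}, (∀ v, Γ.Word (Ylt C.y l) v → v n ∈ K) →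
      (∀ w, Γ.Word (insert y Y) w → ∀ e ∈ insert y Y, w e ∈ K) →
      (∀ w, Γ.Word Y w → ∀ r ∈ R, w r ∈ K) → S ≤ K := fun h1 h2 h3 =>
    sup_le (sup_le (Γ.orb_le fun v hv e he => by rw [Set.mem_singleton_iff.1 he]; exact h1 v hv)
      (Γ.orb_le h2)) (Γ.orb_le h3)
  have sJ : ∀ {w : L →+ L}, Γ.Word (insert y Y) w → ∀ e ∈ insert y Y, ∀ k, Γ.π k (w e) ∈ S :=
    fun hw e he k => mem_sup_left (mem_sup_right (Γ.π_orb hyYQ hyYQ k (Γ.mem_orb hw he)))
  have hnU : ∀ a ∈ S, Γ.B n a ∈ Γ.U (insert y Y) := by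
    intro a ha
    refine sS (K := (Γ.U (insert y Y)).comap (Γ.B n)) hlow (fun w hw e he => ?_)
      (fun w hw r hr => ?_) ha
    · exact Γ.B_orb_mem_U le_rfl (fun e he t => Γ.B_mem_U he t) n (Γ.mem_orb hw he)
    · exact Γ.U_mono (Set.subset_insert _ _) (Γ.mem_ntr.1 (Γ.ntr_symm hr.1.2) w hw)
  have key : ∀ d, Γ.Q d ≤ S := by
    intro d
    induction d with
    | zero =>
      refine hcov.trans (sup_le ((closure_le _).2 ?_) fun r hr => mem_sup_right (Γ.self_mem_orb hr))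
      rintro e (rfl | rfl)
      · exact mem_sup_left (mem_sup_right (Γ.self_mem_orb (Set.mem_insert _ _)))
      · exact mem_sup_left (mem_sup_left (Γ.self_mem_orb rfl))
    | succ d ih =>
      have pull : ∀ x ∈ Γ.Q 0, S ≤ S.comap ((Γ.π (d + 1)).comp (Γ.B x)) →
          ∀ a ∈ Γ.Q d, Γ.B x a ∈ S := by
        intro x hx hS' a ha
        rw [← Γ.π_id (d + 1) _ (Γ.mem_succ d x hx a ha)]
        exact hS' (ih ha)
      have hym : ∀ m, m < i → ∀ a ∈ Γ.Q d, Γ.B (C.y m) a ∈ S := by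
        intro m
        induction m using Nat.strong_induction_on with
        | _ m ihm =>
          intro hm
          have hmY : C.y m ∈ Y := ⟨m, hm, rfl⟩
          refine pull _ (C.ymem m hm) (sS (fun v hv => ?_) (fun w hw e he => ?_) (fun w hw r hr => ?_))
          · show Γ.π (d + 1) (Γ.B (C.y m) (v n)) ∈ S
            by_cases hml : m < l
            · exact mem_sup_left (mem_sup_left (Γ.π_orb (hlY.trans hYQ) hnQ _
                (Γ.B_orb (by exact ⟨m, hml, rfl⟩) (Γ.mem_orb hv rfl))))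
            · have hvm : Γ.Word (Ylt C.y m) v := hv.mono (Ylt_mono C.y (not_lt.1 hml))
              have hr := hrel m (not_lt.1 hml) hm v hvm
              have e1 : Γ.B (C.y m) (v n) = Γ.B (C.y m) (v (C.y m + (y + n)))
                  - (((Γ.B (C.y m)).comp v) (C.y m) + ((Γ.B (C.y m)).comp v) y) := by
                simp only [map_add, AddMonoidHom.comp_apply]; abel
              have hw : Γ.Word (insert y Y) ((Γ.B (C.y m)).comp v) :=
                .cons (Or.inr hmY) (hv.mono (hlY.trans (Set.subset_insert _ _)))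
              rw [e1, map_sub, map_add (Γ.π (d + 1))]
              refine sub_mem (Γ.π_U (C.sub_Q0 hm.le) ?_ hr)
                (add_mem (sJ hw _ (Or.inr hmY) _) (sJ hw _ (Set.mem_insert _ _) _))
              rintro x ⟨q, hq, rfl⟩ a ha
              exact ihm q hq (lt_trans (hq : q < m) hm) a ha
          · exact mem_sup_left (mem_sup_right (Γ.π_orb hyYQ hyYQ _
              (Γ.B_orb (Or.inr hmY) (Γ.mem_orb hw he))))
          · exact mem_sup_right (Γ.π_orb hYQ hRQ _ (Γ.B_orb hmY (Γ.mem_orb hw hr)))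
      have hUY : ∀ u ∈ Γ.U Y, Γ.π (d + 1) u ∈ S := fun u hu =>
        Γ.π_U hYQ (by rintro x ⟨m, hm, rfl⟩ a ha; exact hym m hm a ha) hu
      have hyS : ∀ a ∈ Γ.Q d, Γ.B y a ∈ S := by
        refine pull y hy (sS (fun v hv => ?_) (fun w hw e he => ?_) (fun w hw r hr => ?_))
        · exact hUY _ (Γ.mem_ntr.1 (Γ.ntr_symm hny) v (hv.mono hlY))
        · exact mem_sup_left (mem_sup_right (Γ.π_orb hyYQ hyYQ _
            (Γ.B_orb (Set.mem_insert _ _) (Γ.mem_orb hw he))))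
        · exact hUY _ (Γ.mem_ntr.1 (Γ.ntr_symm hr.1.1) w hw)
      have hnS : ∀ a ∈ Γ.Q d, Γ.B n a ∈ S := by
        intro a ha
        rw [← Γ.π_id (d + 1) _ (Γ.mem_succ d n hn a ha)]
        refine Γ.π_U hyYQ ?_ (hnU a (ih ha))
        rintro x (rfl | ⟨m, hm, rfl⟩) a' ha'
        · exact hyS a' ha'
        · exact hym m hm a' ha'
      refine (Γ.succ_le d).trans ((closure_le _).2 ?_)
      rintro _ ⟨x, hx, a, ha, rfl⟩
      rw [← Γ.π_id (d + 1) _ (Γ.mem_succ d x hx a ha)]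
      refine Γ.π_U (Set.insert_subset hn hyYQ) ?_ (hgen x hx a)
      rintro z (rfl | rfl | ⟨m, hm, rfl⟩) a' ha'
      · exact hnS a' ha'
      · exact hyS a' ha'
      · exact hym m hm a' ha'
  exact fun t => hnU t (Γ.full key t)

/-- Rank is at least what the chain allows. -/
theorem Chain.rank_ge [Finite L] (C : Chain Γ 2 b i) (hL : ∃ N, Nat.card L = 2 ^ N) (hbi : b = i + 1)
    {x : L} (hx : x ∈ Γ.Q 0) (hh : ∀ l ≤ i, C.h l x ≠ 0) (hxx : x ∉ Γ.Ntr (Ylt C.y i) x) :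
    ∀ m ≤ i, 2 ^ (b - m) ≤ Γ.rank (Γ.U (Ylt C.y m)) x := by
  intro m hm
  induction hm using Nat.decreasingInduction with
  | self =>
    obtain ⟨k, hk⟩ := index_pow hL ((Γ.U (Ylt C.y i)).comap (Γ.B x))
    rcases Nat.eq_zero_or_pos k with rfl | hk0
    · refine (hxx (Γ.mem_ntr.2 fun w _ => ?_)).elim
      have : (Γ.U (Ylt C.y i)).comap (Γ.B x) = ⊤ := index_eq_one.1 (by simpa using hk)
      have h2 : w x ∈ (Γ.U (Ylt C.y i)).comap (Γ.B x) := this ▸ mem_top _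
      exact h2
    · rw [GLie.rank, hk]; exact Nat.pow_le_pow_right (by norm_num) (by omega)
  | of_succ m hm ih =>
    obtain ⟨w, hw, hwn⟩ := C.wit rfl m hm x hx (hh m hm.le) (hh (m + 1) hm)
    have hd := index_drop (p := 2) hL (K := (Γ.U (Ylt C.y m)).comap (Γ.B x))
      (K' := (Γ.U (Ylt C.y (m + 1))).comap (Γ.B x))
      (comap_mono (Γ.U_mono (Ylt_mono C.y (by omega)))) ⟨w (C.y m), ?_, hwn⟩
    · refine le_trans ?_ hd
      calc 2 ^ (b - m) = 2 * 2 ^ (b - (m + 1)) := by rw [← pow_succ']; congr 1; omega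
        _ ≤ _ := Nat.mul_le_mul_left _ ih
    · refine Γ.B_orb_mem_U (Y := Ylt C.y m) (E := {C.y m}) (Γ.U_mono (Ylt_mono C.y (by omega)))
        (fun e he t => Γ.B_mem_U (show e ∈ Ylt C.y (m + 1) from
          ⟨m, Nat.lt_succ_self m, (Set.mem_singleton_iff.1 he).symm⟩) t) x
        (Γ.mem_orb hw rfl)

/-- At most one nonzero value of `B x` lies in `U (l + 1)` modulo `U l`. -/
theorem Chain.pair [Finite L] (C : Chain Γ 2 b i) (hL : ∃ N, Nat.card L = 2 ^ N) (hbi : b = i + 1)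
    {x : L} (hx : x ∈ Γ.Q 0) (hh : ∀ l ≤ i, C.h l x ≠ 0) (hxx : x ∉ Γ.Ntr (Ylt C.y i) x)
    {l : ℕ} (hl : l < i) {t t' : L}
    (h1 : Γ.B x t ∈ Γ.U (Ylt C.y (l + 1))) (h2 : Γ.B x t' ∈ Γ.U (Ylt C.y (l + 1)))
    (n1 : Γ.B x t ∉ Γ.U (Ylt C.y l)) (n2 : Γ.B x t' ∉ Γ.U (Ylt C.y l)) :
    Γ.B x t + Γ.B x t' ∈ Γ.U (Ylt C.y l) := by
  set K := (Γ.U (Ylt C.y l)).comap (Γ.B x) with hK
  set K' := (Γ.U (Ylt C.y (l + 1))).comap (Γ.B x) with hK'
  have hle : K ≤ K' := comap_mono (Γ.U_mono (Ylt_mono C.y (by omega)))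
  have hu := C.bd l hl.le x hx (hh l hl.le)
  have hlo := C.rank_ge hL hbi hx hh hxx (l + 1) hl
  have hm := relIndex_mul_index hle
  have hne : K.relIndex K' ≠ 1 := fun h => n1 (relIndex_eq_one.1 h h1)
  have h0 : K.index ≠ 0 := index_ne_zero_of_finite
  have hpos : K.relIndex K' ≠ 0 := fun h => h0 (by rw [← hm, h, zero_mul])
  have htwo : K.relIndex K' = 2 := by
    have e : 2 ^ (b - l) = 2 * 2 ^ (b - (l + 1)) := by rw [← pow_succ']; congr 1; omega
    have h3 : K.relIndex K' * 2 ^ (b - (l + 1)) ≤ 2 * 2 ^ (b - (l + 1)) := by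
      rw [← e]
      exact le_trans (Nat.mul_le_mul_left _ hlo) (hm.le.trans hu)
    have := Nat.le_of_mul_le_mul_right h3 (pow_pos (by norm_num) _)
    omega
  have := (AddSubgroup.add_mem_iff_of_index_two (H := K.addSubgroupOf K') htwo
    (a := ⟨t, h1⟩) (b := ⟨t', h2⟩)).2 (iff_of_false n1 n2)
  rw [← map_add]
  exact this

/-- An orthogonal pair whose sum has maximal rank contradicts maximality of the chain. -/
theorem Chain.descent [Finite L] (C : Chain Γ 2 b i) (hL : ∃ N, Nat.card L = 2 ^ N) (hbi : b = i + 1)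
    {y n : L} (hy : y ∈ Γ.Q 0) (hn : n ∈ Γ.Q 0)
    (hhy : ∀ l ≤ i, C.h l y ≠ 0) (hhn : ∀ l ≤ i, C.h l n ≠ 0)
    (hyy : y ∉ Γ.Ntr (Ylt C.y i) y) (hnn : n ∉ Γ.Ntr (Ylt C.y i) n)
    (hny : n ∈ Γ.Ntr (Ylt C.y i) y)
    (hcov : Γ.Q 0 ≤ closure {y, n} ⊔ (Γ.Ntr (Ylt C.y i) y ⊓ Γ.Ntr (Ylt C.y i) n ⊓ Γ.Q 0))
    (hgen : ∀ x ∈ Γ.Q 0, ∀ t, Γ.B x t ∈ Γ.U (insert n (insert y (Ylt C.y i))))
    (hIn : ∀ t, Γ.B n t ∈ Γ.U (insert y (Ylt C.y i)) → Γ.B n t ∈ Γ.U (Ylt C.y i))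
    (hIy : ∀ t, Γ.B y t ∈ Γ.U (insert n (Ylt C.y i)) → Γ.B y t ∈ Γ.U (Ylt C.y i))
    (hk : 4 ≤ Γ.rank (Γ.U (Ylt C.y i)) (y + n))
    (hfull : ∀ l < i, ¬ 2 * Γ.rank (Γ.U (Ylt C.y l)) (C.y l) ≤ 2 ^ (b - l)) : False := by
  set k := y + n with hkdef
  have hkQ : k ∈ Γ.Q 0 := add_mem hy hn
  have hhk : ∀ l ≤ i, C.h l k = 0 := fun l hl => by
    have h2 : ∀ a c : ZMod 2, a ≠ 0 → c ≠ 0 → a + c = 0 := by decide
    rw [hkdef, map_add]; exact h2 _ _ (hhy l hl) (hhn l hl)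
  have hdn : ∀ l ≤ i, (∀ m, l ≤ m → m < i → ∀ v, Γ.Word (Ylt C.y m) v →
      Γ.B (C.y m) (v (C.y m + k)) ∈ Γ.U (Ylt C.y m)) →
      ∃ v, Γ.Word (Ylt C.y l) v ∧ Γ.B n (v n) ∉ Γ.U (insert y (Ylt C.y i)) := by
    intro l hl hrel
    by_contra hcon
    push Not at hcon
    exact hnn (Γ.mem_ntr_of_range fun t => hIn t (C.delta hy hn hny hcov hgen hl hrel hcon t))
  have hdy : ∀ l ≤ i, (∀ m, l ≤ m → m < i → ∀ v, Γ.Word (Ylt C.y m) v →
      Γ.B (C.y m) (v (C.y m + k)) ∈ Γ.U (Ylt C.y m)) →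
      ∃ v, Γ.Word (Ylt C.y l) v ∧ Γ.B y (v y) ∉ Γ.U (insert n (Ylt C.y i)) := by
    intro l hl hrel
    by_contra hcon
    push Not at hcon
    refine hyy (Γ.mem_ntr_of_range fun t => hIy t ?_)
    refine C.delta hn hy (Γ.ntr_symm hny) ?_ ?_ hl (fun m h1 h2 v hv => ?_) hcon t
    · rwa [Set.pair_comm, inf_comm (Γ.Ntr _ n)]
    · rw [Set.insert_comm]; exact hgen
    · rw [add_comm n y]; exact hrel m h1 h2 v hv
  have hP : ∀ l, l ≤ i → 2 ^ (b - l + 1) ≤ Γ.rank (Γ.U (Ylt C.y l)) k ∧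
      ∀ m, l ≤ m → m < i → ∀ v, Γ.Word (Ylt C.y m) v →
        Γ.B (C.y m) (v (C.y m + k)) ∈ Γ.U (Ylt C.y m) := by
    intro l hl
    induction hl using Nat.decreasingInduction with
    | self =>
      refine ⟨?_, fun m h1 h2 => absurd h2 (by omega)⟩
      rw [show b - i + 1 = 2 by omega]; exact hk
    | of_succ l hl ih =>
      obtain ⟨hPj, hrel⟩ := ih
      have hyl : C.y l ∈ Ylt C.y (l + 1) := ⟨l, Nat.lt_succ_self l, rfl⟩
      have hsub : Γ.U (Ylt C.y l) ≤ Γ.U (Ylt C.y (l + 1)) := Γ.U_mono (Ylt_mono C.y (by omega))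
      have hmove : ∀ x v, Γ.Word (Ylt C.y l) v → Γ.B x (v (C.y l)) ∈ Γ.U (Ylt C.y (l + 1)) :=
        fun x v hv => Γ.B_orb_mem_U (Y := Ylt C.y l) (E := {C.y l}) hsub
          (fun e he t => by rw [Set.mem_singleton_iff.1 he]; exact Γ.B_mem_U hyl t) x (Γ.mem_orb hv rfl)
      set z := C.y l + k with hz
      have hzQ : z ∈ Γ.Q 0 := add_mem (C.ymem l hl) hkQ
      have hzl : C.h l z ≠ 0 := by rw [hz, map_add, hhk l hl.le, add_zero]; exact C.h_self l hl
      have hzr := C.bd l hl.le z hzQ hzl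
      have hzk : Γ.rank (Γ.U (Ylt C.y (l + 1))) z = Γ.rank (Γ.U (Ylt C.y (l + 1))) k :=
        Γ.rank_congr fun t => by rw [hz, add_sub_cancel_right]; exact Γ.B_mem_U hyl t
      have he : b - (l + 1) + 1 = b - l := by omega
      have hzeq : (Γ.U (Ylt C.y (l + 1))).comap (Γ.B z) ≤ (Γ.U (Ylt C.y l)).comap (Γ.B z) := by
        refine eq_of_index_le (p := 2) hL (comap_mono hsub) ?_
        rw [he, ← hzk] at hPj
        exact hzr.trans hPj
      have hrelL : ∀ m, l ≤ m → m < i → ∀ v, Γ.Word (Ylt C.y m) v →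
          Γ.B (C.y m) (v (C.y m + k)) ∈ Γ.U (Ylt C.y m) := by
        intro m hlm hmi v hv
        rcases Nat.eq_or_lt_of_le hlm with rfl | hlm
        · obtain ⟨v', hv', hm⟩ := hv.move
          have h1 := hm (C.y l) z
          have h2 : Γ.B (v' (C.y l)) z ∈ Γ.U (Ylt C.y l) := by
            rw [Γ.skew]
            exact neg_mem (hzeq (hmove z v' hv'))
          have := add_mem h1 h2
          rwa [sub_add_cancel] at this
        · exact hrel m hlm hmi v hv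
      refine ⟨?_, hrelL⟩
      by_cases hlast : ∀ t, Γ.B k t ∈ Γ.U (Ylt C.y (l + 1)) → Γ.B k t ∈ Γ.U (Ylt C.y l)
      · exfalso
        obtain ⟨vc, hvc, hc⟩ := hdy l hl.le hrelL
        obtain ⟨vd, hvd, hd⟩ := hdn l hl.le hrelL
        obtain ⟨w, hw, hwn⟩ := C.wit rfl l hl y hy (hhy l hl.le) (hhy (l + 1) hl)
        have hkw := hlast _ (hmove k w hw)
        rw [hkdef, map_add, AddMonoidHom.add_apply] at hkw
        have hwn' : Γ.B n (w (C.y l)) ∉ Γ.U (Ylt C.y l) := fun h => hwn (by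
          have := sub_mem hkw h; rwa [add_sub_cancel_right] at this)
        have conv : ∀ x v, Γ.Word (Ylt C.y l) v → ∃ v', Γ.Word (Ylt C.y l) v' ∧
            Γ.B (C.y l) (v x) + Γ.B x (v' (C.y l)) ∈ Γ.U (Ylt C.y l) := by
          intro x v hv
          obtain ⟨v', hv', hm⟩ := hv.move
          refine ⟨v', hv', ?_⟩
          rw [Γ.skew x]
          simpa only [← sub_eq_add_neg] using hm (C.y l) x
        have hVi : Γ.U (Ylt C.y (l + 1)) ≤ Γ.U (Ylt C.y i) := Γ.U_mono (Ylt_mono C.y hl)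
        have hUy : Γ.U (Ylt C.y i) ≤ Γ.U (insert n (Ylt C.y i)) := Γ.U_mono (Set.subset_insert _ _)
        have hlY : Ylt C.y l ⊆ Ylt C.y i := Ylt_mono C.y hl.le
        have hkc : Γ.B k (vc y) ∉ Γ.U (Ylt C.y i) := fun h => hc (hUy (by
          have h2 := Γ.mem_ntr.1 hny vc (hvc.mono hlY)
          rw [hkdef, map_add, AddMonoidHom.add_apply] at h
          have := sub_mem h h2
          rwa [add_sub_cancel_right] at this))
        have hkd : Γ.B k (vd n) ∉ Γ.U (Ylt C.y i) := fun h => hd (Γ.U_mono (Set.subset_insert _ _) (by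
          have h2 := Γ.mem_ntr.1 (Γ.ntr_symm hny) vd (hvd.mono hlY)
          rw [hkdef, map_add, AddMonoidHom.add_apply] at h
          have := sub_mem h h2
          rwa [add_sub_cancel_left] at this))
        have hkcd : Γ.B k (vc y + vd n) ∉ Γ.U (Ylt C.y i) := fun h => hc (by
          have h2 := Γ.mem_ntr.1 hny vc (hvc.mono hlY)
          have h3 := Γ.mem_ntr.1 (Γ.ntr_symm hny) vd (hvd.mono hlY)
          have h4 : Γ.B n (vd n) ∈ Γ.U (insert n (Ylt C.y i)) := Γ.B_mem_U (Set.mem_insert _ _) _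
          simp only [hkdef, map_add, AddMonoidHom.add_apply] at h
          have := sub_mem (sub_mem (hUy h) (add_mem (hUy h2) (hUy h3))) h4
          convert this using 1
          abel)
        obtain ⟨t, ht, htk⟩ : ∃ t, Γ.B (C.y l) t ∈ Γ.U (Ylt C.y l) ∧ Γ.B k t ∉ Γ.U (Ylt C.y i) := by
          by_cases h1 : Γ.B (C.y l) (vc y) ∈ Γ.U (Ylt C.y l)
          · exact ⟨_, h1, hkc⟩
          by_cases h2 : Γ.B (C.y l) (vd n) ∈ Γ.U (Ylt C.y l)
          · exact ⟨_, h2, hkd⟩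
          refine ⟨_, ?_, hkcd⟩
          obtain ⟨c', hc', ec⟩ := conv y vc hvc
          obtain ⟨d', hd', ed⟩ := conv n vd hvd
          have hyc : Γ.B y (c' (C.y l)) ∉ Γ.U (Ylt C.y l) := fun h => h1 (by
            have := sub_mem ec h; rwa [add_sub_cancel_right] at this)
          have hnd : Γ.B n (d' (C.y l)) ∉ Γ.U (Ylt C.y l) := fun h => h2 (by
            have := sub_mem ed h; rwa [add_sub_cancel_right] at this)
          have p1 := C.pair hL hbi hy hhy hyy hl (hmove y c' hc') (hmove y w hw) hyc hwn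
          have p2 := C.pair hL hbi hn hhn hnn hl (hmove n d' hd') (hmove n w hw) hnd hwn'
          rw [map_add]
          have := sub_mem (add_mem ec ed) (sub_mem (add_mem p1 p2) hkw)
          convert this using 1
          abel
        refine hfull l hl ?_
        have hd2 := index_drop (p := 2) hL (K := (Γ.U (Ylt C.y (l + 1))).comap (Γ.B k))
          (K' := (Γ.U (Ylt C.y l)).comap (Γ.B (C.y l))) (fun t ht => ?_)
          ⟨t, ht, fun h => htk (hVi h)⟩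
        · exact hd2.trans ((hzk.symm.le.trans (Γ.rank_mono hsub z)).trans hzr)
        · have h1 : Γ.B k t ∈ Γ.U (Ylt C.y l) := hlast t ht
          have h2 : Γ.B z t ∈ Γ.U (Ylt C.y l) := hzeq (by
            show Γ.B z t ∈ Γ.U (Ylt C.y (l + 1))
            rw [hz, map_add, AddMonoidHom.add_apply]
            exact add_mem (Γ.B_mem_U hyl t) ht)
          show Γ.B (C.y l) t ∈ Γ.U (Ylt C.y l)
          rw [hz, map_add, AddMonoidHom.add_apply] at h2
          have := sub_mem h2 h1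
          rwa [add_sub_cancel_right] at this
      · push Not at hlast
        obtain ⟨t, ht, htn⟩ := hlast
        refine le_trans ?_ (index_drop (p := 2) hL (comap_mono hsub) ⟨t, ht, htn⟩)
        rw [pow_succ', ← he]
        exact Nat.mul_le_mul_left _ hPj
  obtain ⟨v, hv, hvn⟩ := hdn 0 (Nat.zero_le _) (hP 0 (Nat.zero_le _)).2
  rw [Ylt_zero] at hv
  apply hvn
  rcases hv.empty with rfl | rfl
  · rw [AddMonoidHom.id_apply, Γ.sq n hn]; exact zero_mem _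
  · rw [AddMonoidHom.neg_apply, AddMonoidHom.id_apply, map_neg, Γ.sq n hn, neg_zero]; exact zero_mem _

end CfsgLib.PGroup.Breadth
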