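import Cfsg.Agent.Lib.PGroup.Breadth.Two
import Mathlib.Algebra.Field.ZMod

/-!
The breadth bound for graded Lie rings generated in degree zero.
-/

namespace CfsgLib.PGroup.Breadth

open AddSubgroup

variable {L : Type*} [AddCommGroup L] [Finite L] {Γ : GLie L} {p b : ℕ} [hp : Fact p.Prime]

theorem Chain.bound (hL : ∃ N, Nat.card L = p ^ N) :
    ∀ k i, i + k = b → ∀ _ : Chain Γ p b i, Nat.card (Γ.U (Γ.Q 0 : Set L)) ≤ p ^ tri b := by
  intro k
  induction k with
  | zero =>
    intro i hi C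
    obtain rfl : i = b := by omega
    exact C.bound_top
  | succ k ih =>
    intro i hi C
    have hib : i < b := by omega
    set Y := Ylt C.y i with hY
    by_cases hgood : ∃ y ∈ Γ.Q 0, C.h i y ≠ 0 ∧ ¬ Γ.Q 0 ≤ Γ.Ntr Y y ⊔ closure {y}
    · obtain ⟨y, hy, hhy, hn⟩ := hgood
      obtain ⟨g, hg, z, hz, hgz⟩ := Γ.exists_hom_Q0 hL hn
      have gy : g y = 0 := hg y (mem_sup_right (subset_closure rfl)) hy
      have gN : ∀ z ∈ Γ.Q 0, z ∈ Γ.Ntr Y y → g z = 0 := fun z hz h => hg z (mem_sup_left h) hz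
      refine ih (i + 1) (by omega) (C.step hL hib hy hhy g (fun l hl => ?_) gy ⟨z, hz, hgz⟩
        (fun z hz hgz => ?_) fun _ z hz hgz _ h => hgz (gN z hz h)).some
      · exact gN _ (C.ymem l hl) (Γ.closure_le_ntr _ _ (subset_closure ⟨l, hl, rfl⟩))
      · by_cases h0 : C.h i z = 0
        · refine ⟨1, ?_, fun h => hgz ?_⟩
          · rwa [one_smul, map_add, h0, zero_add]
          · rw [one_smul] at h
            have := gN _ (add_mem hz hy) h
            rwa [map_add, gy, add_zero] at this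
        · refine ⟨0, ?_, fun h => hgz ?_⟩
          · rwa [zero_smul, add_zero]
          · rw [zero_smul, add_zero] at h; exact gN z hz h
    push Not at hgood
    by_cases hdead : ∀ y ∈ Γ.Q 0, C.h i y ≠ 0 → Γ.Q 0 ≤ Γ.Ntr Y y
    · exact C.bound_dead hib.le hdead
    push Not at hdead
    obtain ⟨y, hy, hhy, hnd⟩ := hdead
    by_cases hp2 : p = 2
    · subst hp2
      exact C.bound_two hL hib hgood ⟨y, hy, hhy, hnd⟩
    have hyy : y ∉ Γ.Ntr Y y := fun h => hnd ((hgood y hy hhy).trans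
      (sup_le le_rfl ((closure_le _).2 (by simpa using h))))
    have hYQ : Y ⊆ (Γ.Q 0 : Set L) := C.sub_Q0 le_rfl
    by_cases hK : Γ.Q 0 ≤ closure (insert y Y)
    · refine (AddSubgroup.card_le_of_le (Γ.U_le (K := Γ.U (insert y Y))
        fun x hx a => Γ.B_mem_U_closure (hK hx) a)).trans ?_
      rw [Γ.U_insert, Γ.card_sup_range]
      refine le_trans (Nat.mul_le_mul_left _ ((C.bd i le_rfl y hy hhy).trans ?_)) (C.card_U hib.le le_rfl)
      exact Nat.pow_le_pow_right hp.out.pos (le_tri _)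
    obtain ⟨g, hg, z, hz, hgz⟩ := Γ.exists_hom_Q0 hL hK
    refine ih (i + 1) (by omega) (C.step hL hib hy hhy g (fun l hl => ?_) ?_ ⟨z, hz, hgz⟩
      (fun z hz _ => ?_) fun h => absurd h hp2).some
    · exact hg _ (subset_closure (Or.inr ⟨l, hl, rfl⟩)) (C.ymem l hl)
    · exact hg _ (subset_closure (Or.inl rfl)) hy
    · by_contra hcon
      push Not at hcon
      have hp3 : 3 ≤ p := by have := hp.out.two_le; omega
      have hne : ∀ a : ℕ, 0 < a → a < p → (a : ZMod p) ≠ 0 := fun a h0 h1 h => by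
        rw [ZMod.natCast_eq_zero_iff] at h
        exact absurd (Nat.le_of_dvd h0 h) (by omega)
      -- two of the multiples `0, 1, 2` avoid the hyperplane
      have hsep : ∀ a c : ℕ, a < c → c ≤ 2 → C.h i (z + a • y) = 0 → C.h i (z + c • y) ≠ 0 := by
        intro a c hac hc ha hc0
        apply hne (c - a) (by omega) (by omega)
        have h1 : C.h i (z + c • y) = C.h i (z + a • y) + ((c - a : ℕ) : ZMod p) * C.h i y := by
          rw [show c = a + (c - a) by omega, add_smul, ← add_assoc, map_add, map_nsmul, nsmul_eq_mul]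
          simp
        rw [ha, hc0, zero_add] at h1
        exact (mul_eq_zero.1 h1.symm).resolve_right hhy
      have hdiff : ∀ a c : ℕ, a < c → c ≤ 2 → z + a • y ∈ Γ.Ntr Y y → z + c • y ∈ Γ.Ntr Y y → False := by
        intro a c hac hc ha hc'
        have h1 := sub_mem hc' ha
        rw [add_sub_add_left_eq_sub, ← sub_nsmul _ hac.le |>.trans (sub_eq_add_neg _ _).symm] at h1
        obtain ⟨N, hN⟩ := hL
        have hco : IsCoprime ((c - a : ℕ) : ℤ) ((p : ℤ) ^ N) := by
          refine IsCoprime.pow_right ?_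
          rw [Int.isCoprime_iff_gcd_eq_one, Int.gcd_natCast_natCast]
          exact ((hp.out.coprime_iff_not_dvd).2 fun h =>
            absurd (Nat.le_of_dvd (by omega) h) (by omega)).symm
        obtain ⟨u, v, huv⟩ := hco
        apply hyy
        have h2 : y = u • ((c - a) • y) := by
          have h0 : ((p : ℤ) ^ N) • y = 0 := by
            rw [show ((p : ℤ) ^ N) = ((p ^ N : ℕ) : ℤ) by push_cast; rfl, natCast_zsmul, ← hN,
              card_nsmul_eq_zero']
          conv_lhs => rw [← one_smul ℤ y, ← huv, add_smul, mul_smul, mul_smul, h0, smul_zero, add_zero,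
            natCast_zsmul]
        have h3 := (Γ.Ntr Y y).zsmul_mem h1 u
        rwa [← h2] at h3
      by_cases h0 : C.h i (z + 0 • y) = 0
      · exact hdiff 1 2 (by omega) le_rfl (hcon 1 (hsep 0 1 (by omega) (by omega) h0))
          (hcon 2 (hsep 0 2 (by omega) le_rfl h0))
      · by_cases h1 : C.h i (z + 1 • y) = 0
        · exact hdiff 0 2 (by omega) le_rfl (hcon 0 h0) (hcon 2 (hsep 1 2 (by omega) le_rfl h1))
        · exact hdiff 0 1 (by omega) (by omega) (hcon 0 h0) (hcon 1 h1)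

/-- The bound, from the ranks of the elements of degree zero. -/
theorem breadth_bound (Γ : GLie L) (hL : ∃ N, Nat.card L = p ^ N)
    (hr : ∀ x ∈ Γ.Q 0, Γ.rank ⊥ x ≤ p ^ b) : Nat.card (Γ.U (Γ.Q 0 : Set L)) ≤ p ^ tri b := by
  by_cases h0 : Γ.Q 0 ≤ ⊥
  · have : Γ.U (Γ.Q 0 : Set L) = ⊥ := le_bot_iff.1 (Γ.U_le fun x hx a => by
      rw [show x = 0 from (mem_bot).1 (h0 hx), map_zero]; exact zero_mem _)
    rw [this, AddSubgroup.card_bot]
    exact Nat.one_le_pow _ _ hp.out.pos
  obtain ⟨g, -, z, hz, hgz⟩ := Γ.exists_hom_Q0 hL h0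
  refine Chain.bound hL b 0 (Nat.zero_add b) ⟨fun _ => 0, fun _ => g, ?_, ?_, ?_, ⟨z, hz, hgz⟩, ?_, ?_⟩
  · intro l hl; exact absurd hl (Nat.not_lt_zero l)
  · intro l hl; exact absurd hl (Nat.not_lt_zero l)
  · intro m l h1 h2; omega
  · intro l hl z hz _
    obtain rfl : l = 0 := by omega
    rw [Ylt_zero, Γ.U_empty, Nat.sub_zero]; exact hr z hz
  · intro _ l hl; exact absurd hl (Nat.not_lt_zero l)

end CfsgLib.PGroup.Breadth
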