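import Cfsg.Agent.Lib.PGroup.GradedLieRing
import Cfsg.Agent.Lib.PGroup.Breadth.Main
import Mathlib.GroupTheory.PGroup
import Mathlib.GroupTheory.Nilpotent
import Mathlib.GroupTheory.GroupAction.ConjAct

/-!
Vaughan-Lee: the derived subgroup of a `p`-group of breadth `b` has order at most `p ^ tri b`.
-/

namespace CfsgLib.PGroup.Breadth

open CfsgLib.PGroup.Kreknin
open scoped DirectSum commutatorElement

variable {G : Type*} [Group G]

/-- The degree `n` part of the Lie ring of `G`. -/
noncomputable def part (n : ℕ) : AddSubgroup (Gr G) := (DirectSum.of (Factor G) n).range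

theorem gcl_mem_part {n : ℕ} (x : ↥(gam G n)) : gcl n x ∈ part (G := G) n := ⟨_, rfl⟩

theorem exists_gcl {n : ℕ} {u : Gr G} (hu : u ∈ part (G := G) n) : ∃ x : ↥(gam G n), gcl n x = u := by
  obtain ⟨q, rfl⟩ := hu
  obtain ⟨y, hy⟩ := QuotientGroup.mk_surjective (Additive.toMul q)
  exact ⟨y, by rw [show q = Additive.ofMul (y : FactorM G n) by rw [hy]; rfl]; rfl⟩

theorem part_succ_le (n : ℕ) : part (G := G) (n + 1) ≤
    AddSubgroup.closure {u | ∃ x ∈ part (G := G) 0, ∃ a ∈ part (G := G) n, grB x a = u} := by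
  intro u hu
  obtain ⟨⟨z, hz⟩, rfl⟩ := exists_gcl hu
  set K := AddSubgroup.closure {u | ∃ x ∈ part (G := G) 0, ∃ a ∈ part (G := G) n, grB x a = u}
  have hgen : ∀ g ∈ {g : G | ∃ x ∈ gam G n, ∃ y ∈ (⊤ : Subgroup G), ⁅x, y⁆ = g},
      ∀ h : g ∈ gam G (n + 1), gcl (n + 1) ⟨g, h⟩ ∈ K := by
    rintro _ ⟨x, hx, y, -, rfl⟩ h
    have hy : y ∈ gam G 0 := Subgroup.mem_top y
    have h1 : gcl (n + 1) ⟨⁅x, y⁆, h⟩ = grB (gcl n ⟨x, hx⟩) (gcl 0 ⟨y, hy⟩) := by
      rw [grB_gcl]; exact gcl_congr (by omega) rfl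
    rw [h1, grB_skew]
    exact K.neg_mem (AddSubgroup.subset_closure ⟨_, gcl_mem_part _, _, gcl_mem_part _, rfl⟩)
  revert hu
  intro _
  suffices H : ∀ g (hg : g ∈ gam G (n + 1)), gcl (n + 1) ⟨g, hg⟩ ∈ K from H z hz
  intro g hg
  have hg' : g ∈ Subgroup.closure {g : G | ∃ x ∈ gam G n, ∃ y ∈ (⊤ : Subgroup G), ⁅x, y⁆ = g} := hg
  induction hg' using Subgroup.closure_induction with
  | mem x hx => exact hgen x hx hg
  | one =>
    rw [show (⟨1, hg⟩ : ↥(gam G (n + 1))) = 1 from rfl, gcl_one]; exact K.zero_mem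
  | mul x y hx hy ihx ihy =>
    rw [show (⟨x * y, hg⟩ : ↥(gam G (n + 1))) = ⟨x, hx⟩ * ⟨y, hy⟩ from rfl, gcl_mul]
    exact K.add_mem (ihx hx) (ihy hy)
  | inv x hx ihx =>
    rw [show (⟨x⁻¹, hg⟩ : ↥(gam G (n + 1))) = ⟨x, hx⟩⁻¹ from rfl, gcl_inv]
    exact K.neg_mem (ihx hx)

open Classical in
/-- The graded Lie ring of `G`. -/
noncomputable def grGLie : GLie (Gr G) where
  B := grB
  skew := grB_skew
  jac := grB_jac
  Q := part
  sq x hx := by
    obtain ⟨x, rfl⟩ := exists_gcl hx
    rw [grB_gcl, gcl_eq_zero]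
    show ⁅(x : G), (x : G)⁆ ∈ _
    rw [commutatorElement_self]; exact one_mem _
  mem_succ n x hx a ha := by
    obtain ⟨x, rfl⟩ := exists_gcl hx
    obtain ⟨a, rfl⟩ := exists_gcl ha
    rw [grB_gcl]
    have e : 0 + n + 1 = n + 1 := by omega
    exact e ▸ gcl_mem_part (bc x a)
  succ_le := part_succ_le
  π n := (DirectSum.of (Factor G) n).comp
    (DFinsupp.evalAddMonoidHom n : (⨁ i : ℕ, Factor G i) →+ Factor G n)
  π_id n a ha := by
    obtain ⟨q, rfl⟩ := ha
    exact congrArg (DirectSum.of (Factor G) n) (DirectSum.of_eq_same n q)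
  π_ne m n a ha hmn := by
    obtain ⟨q, rfl⟩ := ha
    refine (congrArg (DirectSum.of (Factor G) n) (DirectSum.of_eq_of_ne m n q ?_)).trans (map_zero _)
    exact hmn.symm
  top := by
    refine eq_top_iff.2 fun v hv => ?_
    clear hv
    induction v using gr_induction with
    | h0 => exact zero_mem _
    | hg n y => exact AddSubgroup.mem_iSup_of_mem n (gcl_mem_part y)
    | hadd a b ha hb => exact add_mem ha hb

variable [Finite G] {p : ℕ} [hp : Fact p.Prime]

omit hp in
theorem finite_gr (hG : Group.IsNilpotent G) : Finite (Gr G) := by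
  haveI := hG
  obtain ⟨c, hc⟩ := Subgroup.nilpotent_iff_lowerCentralSeries.1 hG
  have hbot : ∀ n, c ≤ n → gam G n = ⊥ := fun n hn =>
    le_bot_iff.1 (hc ▸ Subgroup.lowerCentralSeries_antitone (⊤ : Subgroup G) hn)
  refine Finite.of_injective (β := ∀ i : Fin c, Factor G i) (fun v i => v i) fun v w h => ?_
  refine DFinsupp.ext fun n => ?_
  by_cases hn : n < c
  · exact congrFun h ⟨n, hn⟩
  · haveI : Subsingleton ↥(gam G n) := by
      rw [hbot n (not_lt.1 hn)]; infer_instance
    haveI : Subsingleton (FactorM G n) := QuotientGroup.mk_surjective.subsingleton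
    exact Subsingleton.elim (α := FactorM G n) _ _

theorem card_gr (hG : IsPGroup p G) [Finite (Gr G)] : ∃ N, Nat.card (Gr G) = p ^ N := by
  have hpg : IsPGroup p (Multiplicative (Gr G)) := by
    intro v
    obtain ⟨N, hN⟩ := IsPGroup.iff_card.1 hG
    refine ⟨N, ?_⟩
    have : ∀ u : Gr G, (p ^ N) • u = 0 := fun u => by
      induction u using gr_induction with
      | h0 => rw [smul_zero]
      | hg n y =>
        have h1 : (p ^ N) • gcl n y = gcl n (y ^ (p ^ N)) := (map_nsmul (cls n) _ _).symm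
        rw [h1, gcl_eq_zero, SubmonoidClass.coe_pow, ← hN, pow_card_eq_one']
        exact one_mem _
      | hadd a b ha hb => rw [smul_add, ha, hb, add_zero]
    exact congrArg Multiplicative.ofAdd (this v.toAdd)
  obtain ⟨N, hN⟩ := IsPGroup.iff_card.1 hpg
  exact ⟨N, (Nat.card_congr Multiplicative.ofAdd).trans hN⟩

omit [Finite G] in
theorem gam_index (n : ℕ) : Nat.card (gam G n) = Nat.card (Factor G n) * Nat.card (gam G (n + 1)) := by
  rw [show Nat.card (Factor G n) = Nat.card (FactorM G n) from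
    Nat.card_congr Additive.toMul,
    Subgroup.card_eq_card_quotient_mul_card_subgroup ((gam G (n + 1)).subgroupOf (gam G n)),
    Nat.card_congr (Subgroup.subgroupOfEquivOfLe (gam_succ_le n)).toEquiv]

omit hp in
/-- The image of a degree zero element has order at most the class size. -/
theorem rank_gcl_le [Finite (Gr G)] (hG : Group.IsNilpotent G) (x : ↥(gam G 0)) :
    (grGLie (G := G)).rank ⊥ (gcl 0 x) ≤ (Subgroup.centralizer ({(x : G)} : Set G)).index := by
  set C := Subgroup.centralizer ({(x : G)} : Set G) with hC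
  set f := grB (gcl 0 x) with hf
  -- the images from degree `n` on
  set P : ℕ → AddSubgroup (Gr G) := fun n => ⨆ m, ⨆ _ : n ≤ m, part (G := G) m with hP
  have hPsucc : ∀ n, P n = part n ⊔ P (n + 1) := by
    intro n
    refine le_antisymm (iSup₂_le fun m hm => ?_) (sup_le (le_iSup₂_of_le n le_rfl le_rfl)
      (iSup₂_le fun m hm => le_iSup₂_of_le m (by omega) le_rfl))
    rcases Nat.eq_or_lt_of_le hm with rfl | h
    · exact le_sup_left
    · exact le_sup_of_le_right (le_iSup₂_of_le m h le_rfl)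
  have key : ∀ k n, Nat.card (gam G (n + k)) ≤ 1 →
      Nat.card ((P n).map f) * Nat.card ↥(C ⊓ gam G n) ≤ Nat.card (gam G n) := by
    intro k
    induction k with
    | zero =>
      intro n hn
      have hb : gam G n = ⊥ := Subgroup.card_eq_one.1 (le_antisymm hn Nat.card_pos)
      have hP0 : P n = ⊥ := le_bot_iff.1 (iSup₂_le fun m hm => fun u hu => by
        obtain ⟨y, rfl⟩ := exists_gcl hu
        rw [AddSubgroup.mem_bot, gcl_eq_zero]
        have : (y : G) ∈ gam G n := Subgroup.lowerCentralSeries_antitone (⊤ : Subgroup G) hm y.2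
        rw [hb, Subgroup.mem_bot] at this
        rw [this]; exact one_mem _)
      rw [hP0, AddSubgroup.map_bot, AddSubgroup.card_bot, one_mul]
      exact Subgroup.card_le_of_le inf_le_right
    | succ k ih =>
      intro n hn
      have ih' := ih (n + 1) (by rwa [show n + 1 + k = n + (k + 1) by omega])
      set φ := brInner x n with hφ
      have hmap : (part (G := G) n).map f ≤ φ.range := by
        rintro _ ⟨u, hu, rfl⟩
        obtain ⟨y, rfl⟩ := exists_gcl hu
        exact ⟨Additive.ofMul (y : FactorM G n), by rw [hφ, brInner_apply, hf, grB_gcl]⟩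
      have h1 : Nat.card ((P n).map f) ≤ Nat.card φ.range * Nat.card ((P (n + 1)).map f) := by
        rw [hPsucc, AddSubgroup.map_sup]
        refine le_trans (AddSubgroup.card_le_of_le (sup_le_sup_right hmap _)) ?_
        rw [← Nat.card_prod]
        refine Nat.card_le_card_of_surjective
          (fun t : φ.range × (P (n + 1)).map f => (⟨t.1 + t.2, add_mem (AddSubgroup.mem_sup_left t.1.2)
            (AddSubgroup.mem_sup_right t.2.2)⟩ : ↥(φ.range ⊔ (P (n + 1)).map f))) ?_
        rintro ⟨v, hv⟩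
        obtain ⟨a, ha, c, hc, rfl⟩ := AddSubgroup.mem_sup.1 hv
        exact ⟨(⟨a, ha⟩, ⟨c, hc⟩), rfl⟩
      -- the centralizer in a factor
      set D := (C ⊓ gam G n) with hD
      set ψ : ↥D →* FactorM G n :=
        (QuotientGroup.mk' ((gam G (n + 1)).subgroupOf (gam G n))).comp (Subgroup.inclusion inf_le_right)
      have hrange : ∀ q ∈ ψ.range, Additive.ofMul q ∈ φ.ker := by
        rintro _ ⟨y, rfl⟩
        rw [AddMonoidHom.mem_ker]
        show φ (Additive.ofMul ((Subgroup.inclusion inf_le_right y : ↥(gam G n)) : FactorM G n)) = 0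
        rw [hφ, brInner_apply, gcl_eq_zero]
        show ⁅(x : G), (y : G)⁆ ∈ _
        rw [commutatorElement_eq_one_iff_mul_comm.2
          ((Subgroup.mem_centralizer_iff.1 y.2.1) x rfl)]
        exact one_mem _
      have h2 : Nat.card ψ.range ≤ Nat.card φ.ker :=
        Nat.card_le_card_of_injective (fun q : ψ.range => (⟨Additive.ofMul q.1, hrange _ q.2⟩ : φ.ker))
          (by intro q q' h; have h' := congrArg Subtype.val h; exact Subtype.ext (Additive.ofMul.injective h'))
      have h3 : Nat.card ψ.ker = Nat.card ↥(C ⊓ gam G (n + 1)) := by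
        refine Nat.card_congr
          ⟨fun y => ⟨y.1.1, y.1.2.1, Subgroup.mem_subgroupOf.1 ((QuotientGroup.eq_one_iff (Subgroup.inclusion inf_le_right y.1)).1 (MonoidHom.mem_ker.1 y.2))⟩,
            fun y => ⟨⟨y.1, y.2.1, gam_succ_le n y.2.2⟩, (QuotientGroup.eq_one_iff _).2
              (Subgroup.mem_subgroupOf.2 y.2.2)⟩, fun y => rfl, fun y => rfl⟩
      have h4 : Nat.card D = Nat.card ψ.ker * Nat.card ψ.range := by
        rw [← Subgroup.index_ker, Subgroup.card_mul_index]
      have h5 : Nat.card φ.ker * Nat.card φ.range = Nat.card (Factor G n) := by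
        rw [← AddSubgroup.index_ker, AddSubgroup.card_mul_index]
      calc Nat.card ((P n).map f) * Nat.card D
          ≤ (Nat.card φ.range * Nat.card ((P (n + 1)).map f)) *
              (Nat.card ↥(C ⊓ gam G (n + 1)) * Nat.card φ.ker) := by
            refine Nat.mul_le_mul h1 ?_
            rw [h4, h3]; exact Nat.mul_le_mul_left _ h2
        _ = (Nat.card φ.ker * Nat.card φ.range) *
              (Nat.card ((P (n + 1)).map f) * Nat.card ↥(C ⊓ gam G (n + 1))) := by ring
        _ ≤ Nat.card (Factor G n) * Nat.card (gam G (n + 1)) := by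
            rw [h5]; exact Nat.mul_le_mul_left _ ih'
        _ = Nat.card (gam G n) := (gam_index n).symm
  obtain ⟨c, hc⟩ := Subgroup.nilpotent_iff_lowerCentralSeries.1 hG
  have h0 := key c 0 (by
    rw [Nat.zero_add, show gam G c = ⊥ from hc, Subgroup.card_bot])
  have hP0 : P 0 = ⊤ := by
    refine eq_top_iff.2 ((grGLie (G := G)).top ▸ iSup_le fun m => ?_)
    exact le_iSup₂_of_le m (Nat.zero_le m) le_rfl
  rw [hP0, ← AddMonoidHom.range_eq_map,
    show (C ⊓ gam G 0 : Subgroup G) = C from inf_eq_left.2 fun g _ => Subgroup.mem_top g,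
    show gam G 0 = (⊤ : Subgroup G) from rfl, Subgroup.card_top] at h0
  rw [GLie.rank, show ((grGLie (G := G)).B (gcl 0 x)) = f from rfl, AddMonoidHom.comap_bot,
    AddSubgroup.index_ker]
  rw [← Subgroup.card_mul_index C, mul_comm] at h0
  exact Nat.le_of_mul_le_mul_left h0 Nat.card_pos

/-- Vaughan-Lee's theorem. -/
theorem card_commutator_le (hG : IsPGroup p G) (b : ℕ)
    (hb : ∀ x : G, (Subgroup.centralizer ({x} : Set G)).index ≤ p ^ b) :
    Nat.card (commutator G) ≤ p ^ tri b := by
  have hN : Group.IsNilpotent G := hG.isNilpotent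
  haveI := finite_gr hN
  refine le_trans ?_ (breadth_bound (b := b) (grGLie (G := G)) (card_gr hG) fun u hu => by
    obtain ⟨x, rfl⟩ := exists_gcl hu
    exact (rank_gcl_le hN x).trans (hb x))
  set D := (grGLie (G := G)).U ((grGLie (G := G)).Q 0 : Set (Gr G)) with hD
  have hpart : ∀ n, part (G := G) (n + 1) ≤ D := fun n => (part_succ_le n).trans
    ((AddSubgroup.closure_le _).2 (by
      rintro _ ⟨x, hx, a, -, rfl⟩; exact (grGLie (G := G)).B_mem_U hx a))
  set P : ℕ → AddSubgroup (Gr G) := fun n => ⨆ m, ⨆ _ : n ≤ m, part (G := G) m with hP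
  have key : ∀ k n, Nat.card (gam G (n + k)) ≤ 1 → Nat.card (gam G n) ≤ Nat.card (P n) := by
    intro k
    induction k with
    | zero => intro n hn; exact le_trans hn Nat.card_pos
    | succ k ih =>
      intro n hn
      have ih' := ih (n + 1) (by rwa [show n + 1 + k = n + (k + 1) by omega])
      rw [gam_index]
      refine le_trans (Nat.mul_le_mul_left _ ih') ?_
      rw [← Nat.card_prod]
      have hsub : P (n + 1) ≤ P n := iSup₂_le fun m hm => le_iSup₂_of_le m (by omega) le_rfl
      have hpn : part n ≤ P n := le_iSup₂_of_le n le_rfl le_rfl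
      refine Nat.card_le_card_of_injective
        (fun t : Factor G n × P (n + 1) => (⟨DirectSum.of (Factor G) n t.1 + t.2,
          add_mem (hpn ⟨t.1, rfl⟩) (hsub t.2.2)⟩ : P n)) ?_
      rintro ⟨q, v⟩ ⟨q', v'⟩ h
      have h1 : DirectSum.of (Factor G) n q + (v : Gr G) = DirectSum.of (Factor G) n q' + v' :=
        congrArg Subtype.val h
      have hz : ∀ w ∈ P (n + 1), (grGLie (G := G)).π n w = 0 := by
        intro w hw
        have : P (n + 1) ≤ ((grGLie (G := G)).π n).ker := iSup₂_le fun m hm u hu =>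
          (grGLie (G := G)).π_ne m n u hu (by omega)
        exact this hw
      have hq : ∀ r : Factor G n,
          (grGLie (G := G)).π n (DirectSum.of (Factor G) n r) = DirectSum.of (Factor G) n r :=
        fun r => (grGLie (G := G)).π_id n _ ⟨r, rfl⟩
      have h2 := congrArg ((grGLie (G := G)).π n) h1
      rw [map_add, map_add, hz _ v.2, hz _ v'.2, hq, hq, add_zero, add_zero] at h2
      obtain rfl := DirectSum.of_injective (β := Factor G) n h2
      exact Prod.ext rfl (Subtype.ext (add_left_cancel h1))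
  obtain ⟨c, hc⟩ := Subgroup.nilpotent_iff_lowerCentralSeries.1 hN
  have hle1 : Nat.card (gam G (1 + c)) ≤ 1 := by
    rw [show gam G (1 + c) = ⊥ from le_bot_iff.1 (hc ▸
      Subgroup.lowerCentralSeries_antitone (⊤ : Subgroup G) (by omega)), Subgroup.card_bot]
  rw [show commutator G = gam G 1 from rfl]
  refine (key c 1 hle1).trans (AddSubgroup.card_le_of_le (iSup₂_le fun m hm => ?_))
  obtain ⟨m, rfl⟩ := Nat.exists_eq_add_of_le' hm
  exact hpart m

end CfsgLib.PGroup.Breadth
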