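import Cfsg.Agent.Lib.PGroup.Breadth.Descent

/-!
The prime two: the chain cannot be lengthened, and the bound is proved directly.
-/

namespace CfsgLib.PGroup.Breadth

open AddSubgroup

variable {L : Type*} [AddCommGroup L] {Γ : GLie L} {b i : ℕ}

theorem add_one_le_two_pow_tri {n : ℕ} (hn : 2 ≤ n) : n + 1 ≤ tri n := by
  induction n, hn using Nat.le_induction with
  | base => decide
  | succ n hn ih => rw [tri]; omega

theorem le_tri (n : ℕ) : n ≤ tri n := by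
  cases n with
  | zero => exact le_rfl
  | succ n => rw [tri]; omega

theorem two_mul_le_tri_succ (n : ℕ) : 2 * n ≤ tri n + 1 := by
  induction n with
  | zero => omega
  | succ n ih =>
    rcases Nat.eq_zero_or_pos n with rfl | h
    · decide
    · rw [tri]; omega

variable [Finite L]

/-- Shift into the position with all lower coordinates nonzero. -/
theorem Chain.shift (C : Chain Γ 2 b i) (x : L) (hhx : C.h i x ≠ 0) :
    ∃ c ∈ closure (Ylt C.y i), c ∈ Γ.Q 0 ∧ ∀ l ≤ i, C.h l (x + c) ≠ 0 := by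
  have hcl : closure (Ylt C.y i) ≤ Γ.Q 0 := (closure_le _).2 (C.sub_Q0 le_rfl)
  suffices H : ∀ k ≤ i, ∃ c ∈ closure (Ylt C.y i), ∀ l < i, i - k ≤ l → C.h l (x + c) ≠ 0 by
    obtain ⟨c, hc, h⟩ := H i le_rfl
    refine ⟨c, hc, hcl hc, fun l hl => ?_⟩
    rcases Nat.eq_or_lt_of_le hl with rfl | hl
    · rwa [map_add, C.h_closure hc, add_zero]
    · exact h l hl (by omega)
  intro k
  induction k with
  | zero => exact fun _ => ⟨0, zero_mem _, fun l h1 h2 => absurd h1 (by omega)⟩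
  | succ k ih =>
    intro hk
    obtain ⟨c, hc, h⟩ := ih (by omega)
    by_cases h0 : C.h (i - (k + 1)) (x + c) = 0
    · refine ⟨c + C.y (i - (k + 1)), add_mem hc (subset_closure ⟨_, by show i - (k + 1) < i; omega, rfl⟩),
        fun l hl hkl => ?_⟩
      rw [← add_assoc, map_add]
      rcases Nat.eq_or_lt_of_le hkl with h' | h'
      · subst h'; rw [h0, zero_add]; exact C.h_self _ hl
      · rw [C.h_low _ _ h' hl.le, add_zero]; exact h l hl (by omega)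
    · refine ⟨c, hc, fun l hl hkl => ?_⟩
      rcases Nat.eq_or_lt_of_le hkl with h' | h'
      · subst h'; exact h0
      · exact h l hl (by omega)

theorem ntr_inv (hL : ∃ N, Nat.card L = 2 ^ N) {m : ℤ} (hm : ¬ (2 : ℤ) ∣ m) (e : ℕ) :
    ∃ c : ℤ, ∀ (V : AddSubgroup L) (v : L), (2 ^ e : ℕ) • v ∈ V → v - c • m • v ∈ V := by
  have hco : IsCoprime m ((2 : ℤ) ^ e) :=
    (IsCoprime.pow_left (⟨-(m / 2), 1, by omega⟩ : IsCoprime (2 : ℤ) m)).symm
  obtain ⟨u, v', huv⟩ := hco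
  refine ⟨u, fun V v hv => ?_⟩
  have h1 : v - u • m • v = v' • ((2 : ℤ) ^ e) • v := by
    rw [sub_eq_iff_eq_add, ← mul_smul, ← mul_smul, ← add_smul, add_comm, huv, one_smul]
  rw [h1]
  refine V.zsmul_mem ?_ v'
  have e2 : ((2 : ℤ) ^ e) • v = (2 ^ e : ℕ) • v := by rw [← natCast_zsmul]; push_cast; rfl
  rwa [e2]

/-- The bound when no further letter can be found. -/
theorem Chain.bound_two (C : Chain Γ 2 b i) (hL : ∃ N, Nat.card L = 2 ^ N) (hib : i < b)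
    (hng : ∀ x ∈ Γ.Q 0, C.h i x ≠ 0 → Γ.Q 0 ≤ Γ.Ntr (Ylt C.y i) x ⊔ closure {x})
    (hex : ∃ x ∈ Γ.Q 0, C.h i x ≠ 0 ∧ ¬ Γ.Q 0 ≤ Γ.Ntr (Ylt C.y i) x) :
    Nat.card (Γ.U (Γ.Q 0 : Set L)) ≤ 2 ^ tri b := by
  set Y := Ylt C.y i with hY
  have hYQ : Y ⊆ (Γ.Q 0 : Set L) := C.sub_Q0 le_rfl
  have hcl : closure Y ≤ Γ.Q 0 := (closure_le _).2 hYQ
  have z3 : ∀ a c e : ZMod 2, a ≠ 0 → c ≠ 0 → e ≠ 0 → a + c + e ≠ 0 := by decide
  have dead : ∀ x ∈ Γ.Q 0, C.h i x ≠ 0 → x ∈ Γ.Ntr Y x → Γ.Q 0 ≤ Γ.Ntr Y x := fun x hx hh hxx =>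
    (hng x hx hh).trans (sup_le le_rfl ((closure_le _).2 (by simpa using hxx)))
  have dec : ∀ x ∈ Γ.Q 0, C.h i x ≠ 0 → ∀ z ∈ Γ.Q 0, ∃ a : ℤ, ∃ r ∈ Γ.Ntr Y x, r ∈ Γ.Q 0 ∧ z = r + a • x := by
    intro x hx hh z hz
    obtain ⟨r, hr, u, hu, hru⟩ := mem_sup.1 (hng x hx hh hz)
    obtain ⟨a, rfl⟩ := mem_closure_singleton.1 hu
    refine ⟨a, r, hr, ?_, hru.symm⟩
    rw [eq_sub_of_add_eq hru]; exact sub_mem hz ((Γ.Q 0).zsmul_mem hx a)
  have bil : ∀ {x z : L}, z ∈ Γ.Ntr Y x → ∀ {w}, Γ.Word Y w →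
      Γ.B z (w x) ∈ Γ.U Y ∧ Γ.B x (w z) ∈ Γ.U Y := fun hz _ hw =>
    ⟨Γ.mem_ntr.1 hz _ hw, Γ.mem_ntr.1 (Γ.ntr_symm hz) _ hw⟩
  -- the diagonal is unchanged by a shift along `closure Y`
  have qsh : ∀ x, ∀ c ∈ closure Y, ∀ w, Γ.Word Y w →
      Γ.B (x + c) (w (x + c)) - Γ.B x (w x) ∈ Γ.U Y := by
    intro x c hc w hw
    have h1 := Γ.B_mem_U_closure hc (w (x + c))
    have h2 := (bil (Γ.closure_le_ntr Y x hc) hw).2
    have := add_mem h1 h2
    convert this using 1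
    simp only [map_add, AddMonoidHom.add_apply]; abel
  -- a common exponent for the diagonal
  classical
  have hE : ∃ e : ℕ, ∀ x ∈ Γ.Q 0, C.h i x ≠ 0 → ∀ w, Γ.Word Y w → (2 ^ e) • Γ.B x (w x) ∈ Γ.U Y := by
    obtain ⟨N, hN⟩ := hL
    exact ⟨N, fun x _ _ w _ => by rw [← hN, card_nsmul_eq_zero']; exact zero_mem _⟩
  obtain ⟨x0, hx0, hh0, hnd0⟩ := hex
  have hE0 : Nat.find hE ≠ 0 := fun h => hnd0 (dead x0 hx0 hh0 (Γ.mem_ntr.2 fun w hw => by
    have := Nat.find_spec hE x0 hx0 hh0 w hw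
    rwa [h, pow_zero, one_smul] at this))
  obtain ⟨e, he⟩ := Nat.exists_eq_succ_of_ne_zero hE0
  have htor : ∀ x ∈ Γ.Q 0, C.h i x ≠ 0 → ∀ w, Γ.Word Y w → (2 ^ (e + 1)) • Γ.B x (w x) ∈ Γ.U Y :=
    fun x hx hh w hw => by have := Nat.find_spec hE x hx hh w hw; rwa [he] at this
  have hmin := Nat.find_min hE (m := e) (by omega)
  push Not at hmin
  obtain ⟨y0, hy0, hhy0, w0, hw0, hy0e⟩ := hmin
  obtain ⟨c0, hc0, hc0Q, hc0h⟩ := C.shift y0 hhy0
  set y := y0 + c0 with hydef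
  clear_value y
  have hy : y ∈ Γ.Q 0 := hydef ▸ add_mem hy0 hc0Q
  have hhy : C.h i y ≠ 0 := hc0h i le_rfl
  have hye : (2 ^ e) • Γ.B y (w0 y) ∉ Γ.U Y := fun h => hy0e (by
    have := sub_mem h (nsmul_mem (qsh y0 c0 hc0 w0 hw0) (2 ^ e))
    rwa [← smul_sub, ← hydef, sub_sub_cancel] at this)
  have hyy : y ∉ Γ.Ntr Y y := fun h => hye (nsmul_mem (bil h hw0).1 _)
  -- an element whose diagonal dominates that of `y` is dominated by it
  have KEY : ∀ x ∈ Γ.Q 0, C.h i x ≠ 0 → ∀ m a : ℤ, ¬ (2 : ℤ) ∣ m →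
      (∀ w, Γ.Word Y w → m • Γ.B y (w y) - a • Γ.B x (w x) ∈ Γ.U Y) →
      ∃ c : ℤ, ∀ w, Γ.Word Y w → Γ.B x (w x) - c • Γ.B y (w y) ∈ Γ.U Y := by
    intro x hx hh m a hm hqa
    obtain ⟨c, hc⟩ := ntr_inv hL hm (e + 1)
    have hA : ∀ w, Γ.Word Y w → Γ.B y (w y) - (c * a) • Γ.B x (w x) ∈ Γ.U Y := fun w hw => by
      have h1 := hc (Γ.U Y) _ (htor y hy hhy w hw)
      have h2 := (Γ.U Y).zsmul_mem (hqa w hw) c
      rw [smul_sub, ← mul_smul c a] at h2
      convert add_mem h1 h2 using 1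
      abel
    have hodd : ¬ (2 : ℤ) ∣ c * a := by
      rintro ⟨a', ha'⟩
      apply hye
      have h1 := nsmul_mem (hA w0 hw0) (2 ^ e)
      have h2 := (Γ.U Y).zsmul_mem (htor x hx hh w0 hw0) a'
      have h3 : (2 ^ e : ℕ) • ((c * a) • Γ.B x (w0 x)) = a' • ((2 ^ (e + 1) : ℕ) • Γ.B x (w0 x)) := by
        rw [← natCast_zsmul, ← natCast_zsmul, ← mul_smul, ← mul_smul, ha']
        congr 1; push_cast; ring
      rw [smul_sub, h3] at h1
      have := add_mem h1 h2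
      rwa [sub_add_cancel] at this
    obtain ⟨c', hc'⟩ := ntr_inv hL hodd (e + 1)
    refine ⟨c', fun w hw => ?_⟩
    have h1 := hc' (Γ.U Y) _ (htor x hx hh w hw)
    have h2 := (Γ.U Y).zsmul_mem (hA w hw) c'
    rw [smul_sub] at h2
    convert sub_mem h1 h2 using 1
    abel
  set Uy := Γ.U (insert y Y) with hUy
  have hle : Γ.U Y ≤ Uy := Γ.U_mono (Set.subset_insert _ _)
  have hBy : ∀ t, Γ.B y t ∈ Uy := fun t => Γ.B_mem_U (Set.mem_insert _ _) t
  have hBx : ∀ x w, Γ.Word Y w → Γ.B x (w y) ∈ Uy := fun x w hw =>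
    Γ.B_orb_mem_U (Y := Y) (E := {y}) hle (fun e' he' t => by rw [Set.mem_singleton_iff.1 he']; exact hBy t)
      x (Γ.mem_orb hw rfl)
  have hcardy : Nat.card Uy ≤ Nat.card (Γ.U Y) * 2 ^ (b - i) := by
    rw [hUy, Γ.U_insert, Γ.card_sup_range]
    exact Nat.mul_le_mul_left _ (C.bd i le_rfl y hy hhy)
  have hcardU := C.card_U hib.le (le_refl i)
  by_cases hall : ∀ x ∈ Γ.Q 0, C.h i x ≠ 0 → ∀ w, Γ.Word Y w → Γ.B x (w x) ∈ Uy
  · have hgen := Γ.gen (Y := Y) (E := {y}) (N := Γ.Ntr Y y ⊓ Γ.Q 0) hYQ (by simpa using hy) inf_le_right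
      ?_ ?_ ?_
    · refine (AddSubgroup.card_le_of_le hgen).trans ?_
      rw [Set.union_singleton]
      refine hcardy.trans (le_trans (Nat.mul_le_mul_left _ ?_) hcardU)
      exact Nat.pow_le_pow_right (by norm_num) (le_tri _)
    · intro z hz
      obtain ⟨a, r, hr, hrQ, rfl⟩ := dec y hy hhy z hz
      exact add_mem (mem_sup_right ⟨hr, hrQ⟩)
        (mem_sup_left ((closure {y}).zsmul_mem (subset_closure rfl) a))
    · rintro e' he' n hn w hw
      rw [Set.mem_singleton_iff.1 he']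
      exact (bil hn.1 hw).2
    · intro n hn n' hn' w hw
      rw [Set.union_singleton]
      have main : ∀ v ∈ Γ.Q 0, C.h i v ≠ 0 → Γ.B v (w n') ∈ Uy := by
        intro v hv hhv
        obtain ⟨a, r, hr, -, hn'e⟩ := dec v hv hhv n' hn'.2
        rw [hn'e, map_add, map_add, map_zsmul, map_zsmul]
        exact add_mem (hle (bil hr hw).2) (Uy.zsmul_mem (hall v hv hhv w hw) a)
      by_cases hhn : C.h i n = 0
      · have h1 := main (n + y) (add_mem hn.2 hy) (by rwa [map_add, hhn, zero_add])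
        rw [map_add, AddMonoidHom.add_apply] at h1
        have := sub_mem h1 (hBy (w n'))
        rwa [add_sub_cancel_right] at this
      · exact main n hn.2 hhn
  push Not at hall
  obtain ⟨x1, hx1, hhx1, w1, hw1, hx1w⟩ := hall
  obtain ⟨m, r1, hr1, hr1Q, hx1e⟩ := dec y hy hhy x1 hx1
  have hm : (2 : ℤ) ∣ m := by
    by_contra hm
    obtain ⟨a', s, hs, -, hye'⟩ := dec x1 hx1 hhx1 y hy
    obtain ⟨c, hc⟩ := KEY x1 hx1 hhx1 m a' hm (fun w hw => by
      have h1 : Γ.B y (w x1) - m • Γ.B y (w y) ∈ Γ.U Y := by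
        rw [hx1e, map_add, map_add, map_zsmul, map_zsmul, add_sub_cancel_right]
        exact (bil hr1 hw).2
      have h2 : Γ.B y (w x1) - a' • Γ.B x1 (w x1) ∈ Γ.U Y := by
        conv => arg 2; rw [hye']
        rw [map_add, map_zsmul, AddMonoidHom.add_apply, AddMonoidHom.zsmul_apply, add_sub_cancel_right]
        exact (bil hs hw).1
      convert sub_mem h2 h1 using 1
      abel)
    refine hx1w ?_
    have := add_mem (hle (hc w1 hw1)) (Uy.zsmul_mem (hBy (w1 y)) c)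
    rwa [sub_add_cancel] at this
  have hhr1 : C.h i r1 ≠ 0 := by
    obtain ⟨m', rfl⟩ := hm
    rwa [hx1e, map_add, map_zsmul, mul_smul, two_zsmul, CharTwo.add_self_eq_zero, add_zero] at hhx1
  obtain ⟨c1, hc1, hc1Q, hc1h⟩ := C.shift r1 hhr1
  set n := r1 + c1 with hndef
  clear_value n
  have hn : n ∈ Γ.Q 0 := hndef ▸ add_mem hr1Q hc1Q
  have hhn : C.h i n ≠ 0 := hc1h i le_rfl
  have hny : n ∈ Γ.Ntr Y y := hndef ▸ add_mem hr1 (Γ.closure_le_ntr Y y hc1)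
  have hqn : Γ.B n (w1 n) ∉ Uy := fun h => hx1w (by
    have h1 := sub_mem h (hle (qsh r1 c1 hc1 w1 hw1))
    rw [← hndef, sub_sub_cancel] at h1
    have h2 := add_mem (add_mem h1 (Uy.zsmul_mem (hBx r1 w1 hw1) m)) (Uy.zsmul_mem (hBy (w1 x1)) m)
    convert h2 using 1
    rw [hx1e]
    simp only [map_add, map_zsmul, AddMonoidHom.add_apply, AddMonoidHom.zsmul_apply, smul_add]
    abel)
  have hnn : n ∉ Γ.Ntr Y n := fun h => hqn (hle (bil h hw1).1)
  set R := Γ.Ntr Y y ⊓ Γ.Ntr Y n ⊓ Γ.Q 0 with hR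
  have hcov : Γ.Q 0 ≤ closure {y, n} ⊔ R := by
    intro z hz
    obtain ⟨a, r, hr, hrQ, rfl⟩ := dec y hy hhy z hz
    obtain ⟨c, s, hs, hsQ, rfl⟩ := dec n hn hhn r hrQ
    have hsy : s ∈ Γ.Ntr Y y := by
      have := sub_mem hr ((Γ.Ntr Y y).zsmul_mem hny c)
      rwa [add_sub_cancel_right] at this
    exact add_mem (add_mem (mem_sup_right ⟨⟨hsy, hs⟩, hsQ⟩)
      (mem_sup_left ((closure {y, n}).zsmul_mem (subset_closure (Or.inr rfl)) c)))
      (mem_sup_left ((closure {y, n}).zsmul_mem (subset_closure (Or.inl rfl)) a))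
  have dom : ∀ v ∈ Γ.Q 0, C.h i v ≠ 0 → (∀ w, Γ.Word Y w → Γ.B y (w v) - Γ.B y (w y) ∈ Γ.U Y) →
      ∃ c : ℤ, ∀ w, Γ.Word Y w → Γ.B v (w v) - c • Γ.B y (w y) ∈ Γ.U Y := by
    intro v hv hhv hyv
    obtain ⟨a, s, hs, -, hye'⟩ := dec v hv hhv y hy
    refine KEY v hv hhv 1 a (by decide) fun w hw => ?_
    have h2 : Γ.B y (w v) - a • Γ.B v (w v) ∈ Γ.U Y := by
      conv => arg 2; rw [hye']
      rw [map_add, map_zsmul, AddMonoidHom.add_apply, AddMonoidHom.zsmul_apply, add_sub_cancel_right]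
      exact (bil hs hw).1
    rw [one_smul]
    convert sub_mem h2 (hyv w hw) using 1
    abel
  have hRh : ∀ r ∈ R, C.h i r = 0 := by
    intro r hr
    by_contra hhr
    set x := y + n + r with hxdef
    clear_value x
    have hx : x ∈ Γ.Q 0 := hxdef ▸ add_mem (add_mem hy hn) hr.2
    have hhx : C.h i x ≠ 0 := by rw [hxdef, map_add, map_add]; exact z3 _ _ _ hhy hhn hhr
    obtain ⟨c, hc⟩ := dom x hx hhx fun w hw => by
      have := add_mem (bil hny hw).2 (bil hr.1.1 hw).2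
      convert this using 1
      simp only [hxdef, map_add]; abel
    obtain ⟨d, s, hs, -, hne⟩ := dec x hx hhx n hn
    refine hqn ?_
    have h1 : Γ.B n (w1 x) - Γ.B n (w1 n) ∈ Γ.U Y := by
      have := add_mem (bil hny hw1).1 (bil hr.1.2 hw1).2
      convert this using 1
      simp only [hxdef, map_add]; abel
    have h2 : Γ.B n (w1 x) - d • Γ.B x (w1 x) ∈ Γ.U Y := by
      conv => arg 2; rw [hne]
      rw [map_add, map_zsmul, AddMonoidHom.add_apply, AddMonoidHom.zsmul_apply, add_sub_cancel_right]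
      exact (bil hs hw1).1
    have h3 := add_mem (hle (sub_mem h2 h1)) (Uy.zsmul_mem (add_mem (hle (hc w1 hw1))
      (Uy.zsmul_mem (hBy (w1 y)) c)) d)
    convert h3 using 1
    rw [sub_add_cancel]; abel
  have hgen : ∀ x ∈ Γ.Q 0, ∀ t, Γ.B x t ∈ Γ.U (insert n (insert y Y)) := by
    have h := Γ.gen (Y := Y) (E := {y, n}) (N := R) hYQ
      (Set.insert_subset hy (Set.singleton_subset_iff.2 hn)) inf_le_right hcov ?_ ?_
    · intro x hx t
      have := h (Γ.B_mem_U hx t)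
      rwa [Set.union_insert, Set.union_singleton, Set.insert_comm] at this
    · rintro e' (rfl | rfl) r hr w hw
      · exact (bil hr.1.1 hw).2
      · exact (bil hr.1.2 hw).2
    · intro r hr r' hr' w hw
      rw [Set.union_insert, Set.union_singleton]
      refine Γ.U_mono (Set.insert_subset_insert (Set.subset_insert _ _)) ?_
      have hv : r + y ∈ Γ.Q 0 := add_mem hr.2 hy
      have hhv : C.h i (r + y) ≠ 0 := by rwa [map_add, hRh r hr, zero_add]
      obtain ⟨c, hc⟩ := dom (r + y) hv hhv fun w' hw' => by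
        rw [map_add, map_add, add_sub_cancel_right]; exact (bil hr.1.1 hw').2
      obtain ⟨a, s, hs, -, hre⟩ := dec (r + y) hv hhv r' hr'.2
      have h1 : Γ.B (r + y) (w r') ∈ Uy := by
        rw [hre, map_add w, map_zsmul w, map_add (Γ.B (r + y)), map_zsmul (Γ.B (r + y))]
        refine add_mem (hle (bil hs hw).2) (Uy.zsmul_mem ?_ a)
        have := add_mem (hle (hc w hw)) (Uy.zsmul_mem (hBy (w y)) c)
        rwa [sub_add_cancel] at this
      rw [map_add, AddMonoidHom.add_apply] at h1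
      have := sub_mem h1 (hBy (w r'))
      rwa [add_sub_cancel_right] at this
  have hDle : Γ.U (Γ.Q 0 : Set L) ≤ Γ.U (insert n (insert y Y)) := Γ.U_le fun x hx t => hgen x hx t
  by_cases hIn : ∀ t, Γ.B n t ∈ Uy → Γ.B n t ∈ Γ.U Y
  swap
  · push Not at hIn
    obtain ⟨t, ht, htn⟩ := hIn
    have h1 := index_drop (p := 2) hL (comap_mono hle) ⟨t, ht, htn⟩
    have h2 := C.bd i le_rfl n hn hhn
    refine (AddSubgroup.card_le_of_le hDle).trans ?_
    rw [Γ.U_insert, Γ.card_sup_range]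
    refine Nat.le_of_mul_le_mul_left ?_ (show 0 < 2 by norm_num)
    calc 2 * (Nat.card Uy * Γ.rank Uy n) = Nat.card Uy * (2 * Γ.rank Uy n) := by ring
      _ ≤ (Nat.card (Γ.U Y) * 2 ^ (b - i)) * 2 ^ (b - i) :=
          Nat.mul_le_mul hcardy (h1.trans h2)
      _ = Nat.card (Γ.U Y) * 2 ^ (2 * (b - i)) := by rw [mul_assoc, ← pow_add, two_mul]
      _ ≤ Nat.card (Γ.U Y) * 2 ^ (tri (b - i) + 1) :=
          Nat.mul_le_mul_left _ (Nat.pow_le_pow_right (by norm_num) (two_mul_le_tri_succ _))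
      _ = 2 * (Nat.card (Γ.U Y) * 2 ^ tri (b - i)) := by rw [pow_succ]; ring
      _ ≤ 2 * 2 ^ tri b := Nat.mul_le_mul_left _ hcardU
  have hIy : ∀ t, Γ.B y t ∈ Γ.U (insert n Y) → Γ.B y t ∈ Γ.U Y := by
    intro t ht
    rw [Γ.U_insert] at ht
    obtain ⟨u, hu, _, ⟨s, rfl⟩, hus⟩ := mem_sup.1 ht
    have h1 : Γ.B n s ∈ Uy := by
      rw [eq_sub_of_add_eq' hus]; exact sub_mem (hBy t) (hle hu)
    rw [← hus]; exact add_mem hu (hIn s h1)
  -- all images lie in that of the sum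
  set k := y + n with hkdef
  clear_value k
  have hyYQ : insert y Y ⊆ (Γ.Q 0 : Set L) := Set.insert_subset hy hYQ
  have hnYQ : insert n Y ⊆ (Γ.Q 0 : Set L) := Set.insert_subset hn hYQ
  set Jy := Γ.Orb (insert y Y) (insert y Y) with hJy
  set Jn := Γ.Orb (insert n Y) (insert n Y) with hJn
  set PR := Γ.Orb Y (R : Set L) with hPR
  have hyJn : ∀ a ∈ Jn, Γ.B y a ∈ Γ.U Y := fun a ha =>
    hIy a (Γ.B_orb_mem_U le_rfl (fun e he t => Γ.B_mem_U he t) y ha)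
  have hnJy : ∀ a ∈ Jy, Γ.B n a ∈ Γ.U Y := fun a ha =>
    hIn a (Γ.B_orb_mem_U le_rfl (fun e he t => Γ.B_mem_U he t) n ha)
  have hyPR : ∀ a ∈ PR, Γ.B y a ∈ Γ.U Y := fun a ha =>
    (Γ.orb_le (K := (Γ.U Y).comap (Γ.B y)) fun w hw r hr => (bil hr.1.1 hw).2) ha
  have hnPR : ∀ a ∈ PR, Γ.B n a ∈ Γ.U Y := fun a ha =>
    (Γ.orb_le (K := (Γ.U Y).comap (Γ.B n)) fun w hw r hr => (bil hr.1.2 hw).2) ha
  have key : ∀ d, Γ.Q d ≤ Jy ⊔ Jn ⊔ PR := by
    intro d
    induction d with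
    | zero =>
      refine hcov.trans (sup_le ((closure_le _).2 ?_) fun r hr => mem_sup_right (Γ.self_mem_orb hr))
      rintro e' (rfl | rfl)
      · exact mem_sup_left (mem_sup_left (Γ.self_mem_orb (Set.mem_insert _ _)))
      · exact mem_sup_left (mem_sup_right (Γ.self_mem_orb (Set.mem_insert _ _)))
    | succ d ih =>
      set S := Jy ⊔ Jn ⊔ PR with hS
      have hSY : ∀ x ∈ Y, ∀ a ∈ Γ.Q d, Γ.B x a ∈ S := by
        intro x hx a ha
        obtain ⟨j, hj, r, hr, rfl⟩ := mem_sup.1 (ih ha)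
        obtain ⟨j1, hj1, j2, hj2, rfl⟩ := mem_sup.1 hj
        rw [map_add, map_add]
        exact add_mem (mem_sup_left (add_mem (mem_sup_left (Γ.B_orb (Or.inr hx) hj1))
          (mem_sup_right (Γ.B_orb (Or.inr hx) hj2)))) (mem_sup_right (Γ.B_orb hx hr))
      have hUY : ∀ u ∈ Γ.U Y, Γ.π (d + 1) u ∈ S := fun u hu => Γ.π_U hYQ hSY hu
      have hyS : ∀ a ∈ Γ.Q d, Γ.B y a ∈ S := by
        intro a ha
        rw [← Γ.π_id (d + 1) _ (Γ.mem_succ d y hy a ha)]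
        obtain ⟨j, hj, r, hr, rfl⟩ := mem_sup.1 (ih ha)
        obtain ⟨j1, hj1, j2, hj2, rfl⟩ := mem_sup.1 hj
        simp only [map_add]
        exact add_mem (add_mem (mem_sup_left (mem_sup_left
          (Γ.π_orb hyYQ hyYQ _ (Γ.B_orb (Set.mem_insert _ _) hj1)))) (hUY _ (hyJn j2 hj2))) (hUY _ (hyPR r hr))
      have hnS : ∀ a ∈ Γ.Q d, Γ.B n a ∈ S := by
        intro a ha
        rw [← Γ.π_id (d + 1) _ (Γ.mem_succ d n hn a ha)]
        obtain ⟨j, hj, r, hr, rfl⟩ := mem_sup.1 (ih ha)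
        obtain ⟨j1, hj1, j2, hj2, rfl⟩ := mem_sup.1 hj
        simp only [map_add]
        exact add_mem (add_mem (hUY _ (hnJy j1 hj1)) (mem_sup_left (mem_sup_right
          (Γ.π_orb hnYQ hnYQ _ (Γ.B_orb (Set.mem_insert _ _) hj2))))) (hUY _ (hnPR r hr))
      refine (Γ.succ_le d).trans ((closure_le _).2 ?_)
      rintro _ ⟨x, hx, a, ha, rfl⟩
      rw [← Γ.π_id (d + 1) _ (Γ.mem_succ d x hx a ha)]
      refine Γ.π_U (Set.insert_subset hn hyYQ) ?_ (hgen x hx a)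
      rintro z (rfl | rfl | hz) a' ha'
      · exact hnS a' ha'
      · exact hyS a' ha'
      · exact hSY z hz a' ha'
  have hUk : Γ.U Y ≤ Γ.U (insert k Y) := Γ.U_mono (Set.subset_insert _ _)
  have hDk : Γ.U (Γ.Q 0 : Set L) ≤ Γ.U (insert k Y) := by
    refine hDle.trans (Γ.U_le ?_)
    rintro z (rfl | rfl | hz) a
    · obtain ⟨j, hj, r, hr, rfl⟩ := mem_sup.1 (Γ.full key a)
      obtain ⟨j1, hj1, j2, hj2, rfl⟩ := mem_sup.1 hj
      simp only [map_add]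
      refine add_mem (add_mem (hUk (hnJy j1 hj1)) ?_) (hUk (hnPR r hr))
      have := sub_mem (Γ.B_mem_U (Set.mem_insert k Y) j2) (hUk (hyJn j2 hj2))
      convert this using 1
      simp only [hkdef, map_add, AddMonoidHom.add_apply]; abel
    · obtain ⟨j, hj, r, hr, rfl⟩ := mem_sup.1 (Γ.full key a)
      obtain ⟨j1, hj1, j2, hj2, rfl⟩ := mem_sup.1 hj
      simp only [map_add]
      refine add_mem (add_mem ?_ (hUk (hyJn j2 hj2))) (hUk (hyPR r hr))
      have := sub_mem (Γ.B_mem_U (Set.mem_insert k Y) j1) (hUk (hnJy j1 hj1))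
      convert this using 1
      simp only [hkdef, map_add, AddMonoidHom.add_apply]; abel
    · exact hUk (Γ.B_mem_U hz a)
  refine (AddSubgroup.card_le_of_le hDk).trans ?_
  rw [Γ.U_insert, Γ.card_sup_range]
  -- `i = 0` does not occur
  obtain ⟨j, hij⟩ : ∃ j, i = j + 1 := by
    rcases i with _ | j
    · refine (hyy ?_).elim
      refine Γ.mem_ntr.2 fun w hw => ?_
      rw [hY, Ylt_zero] at hw
      rcases hw.empty with rfl | rfl
      · rw [AddMonoidHom.id_apply, Γ.sq y hy]; exact zero_mem _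
      · rw [AddMonoidHom.neg_apply, AddMonoidHom.id_apply, map_neg, Γ.sq y hy, neg_zero]
        exact zero_mem _
    · exact ⟨j, rfl⟩
  have hkQ : k ∈ Γ.Q 0 := hkdef ▸ add_mem hy hn
  have hhk : C.h j k = 0 := by
    have h2 : ∀ a c : ZMod 2, a ≠ 0 → c ≠ 0 → a + c = 0 := by decide
    rw [hkdef, map_add]; exact h2 _ _ (hc0h j (by omega)) (hc1h j (by omega))
  have hrk : Γ.rank (Γ.U Y) k ≤ 2 ^ (b - i + 1) := by
    have h1 : C.h j (C.y j + k) ≠ 0 := by rw [map_add, hhk, add_zero]; exact C.h_self j (by omega)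
    have h2 := C.bd j (by omega) _ (add_mem (C.ymem j (by omega)) hkQ) h1
    rw [show b - i + 1 = b - j by omega]
    refine le_trans ?_ h2
    have : Γ.rank (Γ.U Y) k = Γ.rank (Γ.U Y) (C.y j + k) := Γ.rank_congr fun t => by
      rw [sub_add_cancel_right, map_neg, AddMonoidHom.neg_apply]
      exact neg_mem (Γ.B_mem_U (show C.y j ∈ Y from ⟨j, by show j < i; omega, rfl⟩) t)
    rw [this]
    exact Γ.rank_mono (Γ.U_mono (Ylt_mono C.y (by omega))) _
  rcases le_or_gt 2 (b - i) with h2 | h2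
  · refine le_trans (Nat.mul_le_mul_left _ (hrk.trans ?_)) hcardU
    exact Nat.pow_le_pow_right (by norm_num) (add_one_le_two_pow_tri h2)
  have hbi : b = i + 1 := by omega
  have htri : tri (b - i) = 1 := by rw [show b - i = 1 by omega]; rfl
  by_cases hk2 : Γ.rank (Γ.U Y) k ≤ 2
  · refine le_trans (Nat.mul_le_mul_left _ ?_) hcardU
    rwa [htri, pow_one]
  have hk4 : 4 ≤ Γ.rank (Γ.U Y) k := by
    obtain ⟨q, hq⟩ := index_pow hL ((Γ.U Y).comap (Γ.B k))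
    rw [GLie.rank, hq] at hk2 ⊢
    rcases q with _ | _ | q
    · simp at hk2
    · simp at hk2
    · rw [pow_succ, pow_succ]; have := Nat.one_le_two_pow (n := q); omega
  by_cases hfull : ∀ l < i, ¬ 2 * Γ.rank (Γ.U (Ylt C.y l)) (C.y l) ≤ 2 ^ (b - l)
  · exact (C.descent hL hbi hy hn hc0h hc1h hyy hnn hny hcov hgen hIn hIy (hkdef ▸ hk4) hfull).elim
  push Not at hfull
  obtain ⟨l, hl, hlr⟩ := hfull
  have h1 := C.card_le hib.le (Nat.succ_le_of_lt hl) (le_refl i)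
  have h3 := C.card_U hib.le hl.le
  rw [tri_sub (show l < b by omega), pow_add] at h3
  rw [htri, pow_one, C.card_succ] at h1
  have h4 : Γ.rank (Γ.U Y) k ≤ 4 := by rwa [show b - i + 1 = 2 by omega] at hrk
  calc Nat.card (Γ.U Y) * Γ.rank (Γ.U Y) k ≤ Nat.card (Γ.U Y) * 2 * 2 := by
        rw [mul_assoc]; exact Nat.mul_le_mul_left _ h4
    _ ≤ Nat.card (Γ.U (Ylt C.y l)) * Γ.rank (Γ.U (Ylt C.y l)) (C.y l) * 2 ^ tri (b - (l + 1)) * 2 :=
        Nat.mul_le_mul_right _ h1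
    _ = Nat.card (Γ.U (Ylt C.y l)) * (2 ^ tri (b - (l + 1)) *
          (2 * Γ.rank (Γ.U (Ylt C.y l)) (C.y l))) := by ring
    _ ≤ Nat.card (Γ.U (Ylt C.y l)) * (2 ^ tri (b - (l + 1)) * 2 ^ (b - l)) :=
        Nat.mul_le_mul_left _ (Nat.mul_le_mul_left _ hlr)
    _ ≤ 2 ^ tri b := h3

end CfsgLib.PGroup.Breadth
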